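import Mathlib

/-!
# Elements of the general linear group of a space of dimension 3 over the field of two elements
-/

set_option autoImplicit false

namespace Cfsg.Agent.Lib.PrimeInvol7

/-- The model space. -/
abbrev Cube : Type := ZMod 2 × ZMod 2 × ZMod 2

/-- order 3, fixing only `(1, 1, 1)`. -/
def cX : Cube ≃ₗ[ZMod 2] Cube where
  toFun v := (v.2.2, v.1, v.2.1)
  invFun v := (v.2.1, v.2.2, v.1)
  map_add' := by decide
  map_smul' := by decide
  left_inv := by decide
  right_inv := by decide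

/-- an involution inverting `cX`. -/
def cT : Cube ≃ₗ[ZMod 2] Cube where
  toFun v := (v.2.1, v.1, v.2.2)
  invFun v := (v.2.1, v.1, v.2.2)
  map_add' := by decide
  map_smul' := by decide
  left_inv := by decide
  right_inv := by decide

/-- order 4 with square `cT`. -/
def cF : Cube ≃ₗ[ZMod 2] Cube where
  toFun v := (v.2.1 + v.2.2, v.1 + v.2.2, v.1 + v.2.1 + v.2.2)
  invFun v := (v.1 + v.2.2, v.2.1 + v.2.2, v.1 + v.2.1 + v.2.2)
  map_add' := by decide
  map_smul' := by decide
  left_inv := by decide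
  right_inv := by decide

/-- first commutator factor of `cF`. -/
def cA : Cube ≃ₗ[ZMod 2] Cube where
  toFun v := (v.2.2, v.2.1, v.1 + v.2.2)
  invFun v := (v.2.2 + v.1, v.2.1, v.1)
  map_add' := by decide
  map_smul' := by decide
  left_inv := by decide
  right_inv := by decide

/-- second commutator factor of `cF`. -/
def cB : Cube ≃ₗ[ZMod 2] Cube where
  toFun v := (v.2.1, v.2.2, v.1 + v.2.1)
  invFun v := (v.2.2 + v.1, v.1, v.2.1)
  map_add' := by decide
  map_smul' := by decide
  left_inv := by decide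
  right_inv := by decide

/-- order 7, normalised by `cX`. -/
def cY : Cube ≃ₗ[ZMod 2] Cube where
  toFun v := (v.2.2, v.2.1 + v.2.2, v.1 + v.2.1 + v.2.2)
  invFun v := (v.2.2 + v.2.1, v.2.1 + v.1, v.1)
  map_add' := by decide
  map_smul' := by decide
  left_inv := by decide
  right_inv := by decide

theorem cF_eq : cF = cA * cB * cA⁻¹ * cB⁻¹ :=
  LinearEquiv.ext (show ∀ v, cF v = cA (cB (cA.symm (cB.symm v))) by decide)

theorem cF_sq : cF * cF = cT := LinearEquiv.ext (show ∀ v, cF (cF v) = cT v by decide)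

theorem cT_sq : cT * cT = 1 := LinearEquiv.ext (show ∀ v, cT (cT v) = v by decide)

theorem cT_ne : cT ≠ 1 := fun h =>
  absurd (DFunLike.congr_fun h ((1, 0, 0) : Cube)) (show cT (1, 0, 0) ≠ (1, 0, 0) by decide)

theorem cX_pow : cX ^ 3 = 1 := LinearEquiv.ext (show ∀ v, cX (cX (cX v)) = v by decide)

theorem cY_pow : cY ^ 7 = 1 :=
  LinearEquiv.ext (show ∀ v, cY (cY (cY (cY (cY (cY (cY v)))))) = v by decide)

theorem cT_cX : cT * cX * cT = cX ^ 2 :=
  LinearEquiv.ext (show ∀ v, cT (cX (cT v)) = cX (cX v) by decide)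

theorem cX_cY : cX * cY = cY ^ 2 * cX :=
  LinearEquiv.ext (show ∀ v, cX (cY v) = cY (cY (cX v)) by decide)

theorem cY_fixed : ∀ v, cY v = v → v = 0 := by decide

theorem cX_fixed : ∀ v, cX v = v → v = 0 ∨ v = (1, 1, 1) := by decide

theorem cY_trans : ∀ v w : Cube, v ≠ 0 → w ≠ 0 → ∃ i : Fin 7, (cY ^ (i : ℕ)) v = w := by decide

/-- The dot product. -/
abbrev cDot (c w : Cube) : ZMod 2 := c.1 * w.1 + c.2.1 * w.2.1 + c.2.2 * w.2.2

set_option synthInstance.maxSize 1000 in
set_option synthInstance.maxHeartbeats 200000 in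
theorem exists_normal : ∀ a b : Cube, a ≠ 0 → b ≠ 0 → a ≠ b → ∃ c : Cube,
    (cDot c a = 0 ∧ cDot c b = 0) ∧
      ∀ w : Cube, cDot c w = 0 → w = 0 ∨ w = a ∨ w = b ∨ w = a + b := by
  decide +kernel

/-- A linear map whose fixed vectors are a given plane. -/
theorem exists_fixing : ∀ a b : Cube, a ≠ 0 → b ≠ 0 → a ≠ b →
    ∃ e : Cube ≃ₗ[ZMod 2] Cube, e a = a ∧ e b = b ∧
      ∀ w, e w = w → w = 0 ∨ w = a ∨ w = b ∨ w = a + b := by
  intro a b ha hb hab
  obtain ⟨c, hc, hc'⟩ := exists_normal a b ha hb hab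
  let φ : Cube →ₗ[ZMod 2] ZMod 2 :=
    { toFun := fun w => c.1 * w.1 + c.2.1 * w.2.1 + c.2.2 * w.2.2
      map_add' := fun x y => by simp only [Prod.fst_add, Prod.snd_add]; ring
      map_smul' := fun r x => by
        simp only [Prod.smul_fst, Prod.smul_snd, smul_eq_mul, RingHom.id_apply]; ring }
  refine ⟨LinearEquiv.ofInvolutive (LinearMap.id + φ.smulRight a) (fun w => ?_), ?_, ?_, fun w hw => ?_⟩
  · show w + φ w • a + φ (w + φ w • a) • a = w
    rw [map_add, map_smul, show φ a = 0 from hc.1, smul_zero, add_zero, add_assoc, ← add_smul,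
      CharTwo.add_self_eq_zero, zero_smul, add_zero]
  · show a + φ a • a = a
    rw [show φ a = 0 from hc.1, zero_smul, add_zero]
  · show b + φ b • a = b
    rw [show φ b = 0 from hc.2, zero_smul, add_zero]
  · have h : w + φ w • a = w := hw
    rw [add_eq_left, smul_eq_zero] at h
    exact hc' w (h.resolve_right ha)

end Cfsg.Agent.Lib.PrimeInvol7
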