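import Cfsg.Agent.Lib.PrimeInvol7.Lift
import Cfsg.Agent.Lib.PrimeInvol7.Model3

/-!
# Seven involutions, all linear maps induced, abelian 2-group: impossible

An element of order 4 in the image has determinant 1 on the homocyclic group `T`, so its fixed
vectors are norms for its square, which therefore would lift to an involution.
-/

set_option autoImplicit false
set_option linter.style.haveILetI false
set_option linter.unusedSectionVars false

namespace Cfsg.Agent.Lib.PrimeInvol7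

open Subgroup

universe u

/-- An abelian group of exponent `2 ^ n` with at most 8 square roots of 1 has order at most `8 ^ n`. -/
theorem card_le_eight_pow {A : Type*} [CommGroup A] [Finite A] (n : ℕ) (H : Subgroup A)
    (hn : ∀ x ∈ H, x ^ 2 ^ n = 1) (hk : Nat.card {x : A // x * x = 1} ≤ 8) :
    Nat.card H ≤ 8 ^ n := by
  induction n generalizing H with
  | zero =>
    have h : H = ⊥ := (eq_bot_iff).2 fun x hx => mem_bot.2 (by simpa using hn x hx)
    simp [h]
  | succ n ih =>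
    let φ : H →* A := (powMonoidHom 2).comp H.subtype
    have hker : Nat.card φ.ker ≤ 8 := by
      refine le_trans ?_ hk
      refine Nat.card_le_card_of_injective
        (fun x => (⟨((x : H) : A), ?_⟩ : {x : A // x * x = 1})) fun x y h => ?_
      · rw [← sq]
        exact MonoidHom.mem_ker.1 x.2
      · exact Subtype.ext (Subtype.ext (congrArg (fun a : {x : A // x * x = 1} => (a : A)) h))
    have hr : Nat.card φ.range ≤ 8 ^ n := ih φ.range (by
      rintro _ ⟨x, rfl⟩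
      show ((x : A) ^ 2) ^ 2 ^ n = 1
      rw [← pow_mul, ← pow_succ']
      exact hn _ x.2)
    rw [Subgroup.card_eq_card_quotient_mul_card_subgroup φ.ker,
      Nat.card_congr (QuotientGroup.quotientKerEquivRange φ).toEquiv, pow_succ]
    exact Nat.mul_le_mul hr hker

variable {G : Type u} [Group G] [Finite G]

theorem Frame.fix_of_comm {W : Type*} [AddCommGroup W] [Module (ZMod 2) W] {S : Setup G W}
    (F : Frame S) (hcomm : ∀ x ∈ F.T, ∀ y ∈ F.T, x * y = y * x) :
    ∀ c ∈ F.G1, c ∈ S.C → ∀ x ∈ F.T, c * x = x * c := by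
  haveI : Fact (Nat.Prime 2) := ⟨Nat.prime_two⟩
  -- elements of odd order
  have hodd : ∀ c ∈ F.G1, c ∈ S.C → Odd (orderOf c) →
      ∀ (n : ℕ) (x : G), x ∈ F.T → x ^ 2 ^ n = 1 → c * x = x * c := by
    intro c hc hcC hco n
    induction n with
    | zero => intro x _ hx; rw [pow_zero, pow_one] at hx; rw [hx, mul_one, one_mul]
    | succ n ih =>
      intro x hx hxn
      have h2 := ih (x * x) (mul_mem hx hx) (by rw [← pow_two, ← pow_mul, ← pow_succ']; exact hxn)
      set d := x⁻¹ * (c * x * c⁻¹) with hd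
      have hy : c * x * c⁻¹ ∈ F.T := F.conj_mem hc hx
      have hd2 : d * d = 1 := by
        calc d * d = x⁻¹ * ((c * x * c⁻¹) * x⁻¹) * (c * x * c⁻¹) := by rw [hd]; group
          _ = x⁻¹ * (x⁻¹ * (c * x * c⁻¹)) * (c * x * c⁻¹) := by rw [hcomm _ hy _ (inv_mem hx)]
          _ = (x * x)⁻¹ * (c * (x * x) * c⁻¹) := by group
          _ = 1 := by rw [h2, mul_inv_cancel_right, inv_mul_cancel]
      obtain ⟨w, hw⟩ := (S.sq_eq_one d).1 hd2
      have hdc : c * d * c⁻¹ = d := by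
        rw [← hw, ← S.mem_C.1 hcC w, mul_inv_cancel_right]
      have hit : ∀ i : ℕ, c ^ i * x * (c ^ i)⁻¹ = x * d ^ i := by
        intro i
        induction i with
        | zero => simp
        | succ i ihi =>
          calc c ^ (i + 1) * x * (c ^ (i + 1))⁻¹ = c * (c ^ i * x * (c ^ i)⁻¹) * c⁻¹ := by
                rw [pow_succ']; group
            _ = c * x * c⁻¹ * (c * d * c⁻¹) ^ i := by rw [ihi, conj_pow]; group
            _ = x * d ^ (i + 1) := by rw [hdc, pow_succ', ← mul_assoc, hd]; group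
      have h1 := hit (orderOf c)
      obtain ⟨j, hj⟩ := hco
      rw [pow_orderOf_eq_one, hj, pow_succ d, pow_mul d, pow_two, hd2, one_pow, one_mul, one_mul,
        inv_one, mul_one, left_eq_mul] at h1
      rw [hd, inv_mul_eq_one] at h1
      calc c * x = c * x * c⁻¹ * c := by group
        _ = x * c := by rw [← h1]
  intro c hc hcC x hx
  obtain ⟨e, q, hq, he⟩ := Nat.exists_eq_two_pow_mul_odd (orderOf_pos c).ne'
  obtain ⟨i, hi⟩ := F.pgroup ⟨x, hx⟩
  have hi' : x ^ 2 ^ i = 1 := congrArg Subtype.val hi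
  have h2 : c ^ q ∈ F.T := F.mem _ (pow_mem hc q) (pow_mem hcC q) e (by
    rw [← pow_mul, mul_comm, ← he, pow_orderOf_eq_one])
  have ho : Odd (orderOf (c ^ 2 ^ e)) := by
    rw [orderOf_pow_of_dvd (by positivity) ⟨q, he⟩, he, Nat.mul_div_cancel_left _ (by positivity)]
    exact hq
  have h3 : Commute (c ^ 2 ^ e) x := hodd _ (pow_mem hc _) (pow_mem hcC _) ho i x hx hi'
  have h4 : Commute (c ^ q) x := hcomm _ h2 _ hx
  have hco : Nat.Coprime (2 ^ e) q := Nat.Coprime.pow_left _ (Nat.coprime_two_left.2 hq)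
  have hbez : c = (c ^ 2 ^ e) ^ (Nat.gcdA (2 ^ e) q) * (c ^ q) ^ (Nat.gcdB (2 ^ e) q) := by
    rw [← zpow_natCast, ← zpow_natCast c q, ← zpow_mul, ← zpow_mul, ← zpow_add,
      ← Nat.gcd_eq_gcd_ab, hco.gcd_eq_one, Nat.cast_one, zpow_one]
  rw [hbez]
  exact ((h3.zpow_left _).mul_left (h4.zpow_left _)).eq

/-- On a homocyclic group of rank 3 a commutator of order 4 with one Jordan block modulo 2 has its
fixed points among the norms of its square. -/
theorem exists_norm {A : Type*} [AddCommGroup A] [Finite A] {m : ℕ} [Module (ZMod (2 ^ (m + 1))) A]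
    (Φ a b : A ≃ₗ[ZMod (2 ^ (m + 1))] A) (hc : Φ = a * b * a⁻¹ * b⁻¹) (e₀ : A) (incl : Cube →+ A)
    (hincl : Function.Injective incl) (hΦincl : ∀ w, Φ (incl w) = incl (cF w))
    (he₀m : (2 ^ m : ℕ) • e₀ = incl (1, 0, 0)) (hcard : Nat.card A ≤ 8 ^ (m + 1))
    (hF4 : Φ (Φ (Φ (Φ e₀))) = e₀) (x : A) (hx : Φ x = x) : ∃ w, x = w + Φ (Φ w) := by
  classical
  haveI : NeZero (2 ^ (m + 1)) := ⟨by positivity⟩
  have hdet : LinearEquiv.det Φ = 1 := by
    rw [hc]
    simp only [map_mul, map_inv]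
    rw [mul_comm (LinearEquiv.det a) (LinearEquiv.det b), mul_inv_cancel_right, mul_inv_cancel]
  let L : (Fin 3 → ZMod (2 ^ (m + 1))) →ₗ[ZMod (2 ^ (m + 1))] A :=
    Fintype.linearCombination (ZMod (2 ^ (m + 1))) ![e₀, Φ e₀, Φ (Φ e₀)]
  have hL : ∀ c, L c = c 0 • e₀ + c 1 • Φ e₀ + c 2 • Φ (Φ e₀) := fun c => by
    simp [L, Fintype.linearCombination_apply, Fin.sum_univ_three]
  have hinj : ∀ c, L c = 0 → c = 0 := by
    intro c hc
    suffices h : ∀ b, b ≤ m + 1 → ∀ i, 2 ^ b ∣ (c i).val by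
      funext i
      have h1 := h (m + 1) le_rfl i
      have h2 := (c i).val_lt
      exact (ZMod.val_eq_zero _).1 (Nat.eq_zero_of_dvd_of_lt h1 h2)
    intro b
    induction b with
    | zero => intro _ i; simp
    | succ b ih =>
      intro hb
      choose k hk using ih (by omega)
      suffices h2 : ∀ i, (k i : ZMod 2) = 0 by
        intro i
        rw [hk i, pow_succ]
        exact Nat.mul_dvd_mul_left _ ((ZMod.natCast_eq_zero_iff _ _).1 (h2 i))
      have hsm : ∀ (i : Fin 3) (x : A),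
          (2 ^ (m - b) : ℕ) • (c i • x) = k i • ((2 ^ m : ℕ) • x) := fun i x => by
        rw [← ZMod.natCast_rightInverse (c i), Nat.cast_smul_eq_nsmul, ← mul_nsmul', ← mul_nsmul']
        congr 1
        show 2 ^ (m - b) * (c i).val = k i * 2 ^ m
        rw [hk i, ← mul_assoc, ← pow_add, show m - b + b = m by omega, mul_comm]
      have h1 : (2 ^ (m - b) : ℕ) • L c = 0 := by rw [hc, nsmul_zero]
      rw [hL, nsmul_add, nsmul_add, hsm, hsm, hsm] at h1
      simp only [← map_nsmul Φ] at h1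
      simp only [he₀m, hΦincl, ← map_nsmul incl, ← map_add] at h1
      have h3 := (map_eq_zero_iff incl hincl).1 h1
      simp only [← Nat.cast_smul_eq_nsmul (ZMod 2)] at h3
      have h4 := (show ∀ p q r : ZMod 2, p • ((1, 0, 0) : Cube) + cF (q • ((1, 0, 0) : Cube)) +
        cF (cF (r • ((1, 0, 0) : Cube))) = 0 → p = 0 ∧ q = 0 ∧ r = 0 by decide) _ _ _ h3
      intro i
      fin_cases i
      exacts [h4.1, h4.2.1, h4.2.2]
  have hLinj : Function.Injective L := (injective_iff_map_eq_zero L).2 hinj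
  have hLbij : Function.Bijective L := by
    refine (Nat.bijective_iff_injective_and_card L).2 ⟨hLinj, le_antisymm
      (Nat.card_le_card_of_injective L hLinj) ?_⟩
    rw [Nat.card_fun, Nat.card_zmod, Nat.card_fin, ← pow_mul,
      mul_comm, pow_mul]
    exact hcard
  let Le := LinearEquiv.ofBijective L hLbij
  obtain ⟨cc, hcc⟩ := hLbij.2 (Φ (Φ (Φ e₀)))
  set α := cc 0
  set β := cc 1
  set γ := cc 2
  have hM : ∀ a b c : ZMod (2 ^ (m + 1)), Φ (L ![a, b, c]) = L ![c * α, a + c * β, b + c * γ] := by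
    intro a b c
    rw [hL, hL]
    simp only [Matrix.cons_val_zero, Matrix.cons_val_one, Matrix.cons_val, map_add, map_smul]
    rw [← hcc, hL]
    module
  -- determinant
  have hα : α = 1 := by
    have h1 := congrArg Units.val hdet
    rw [LinearEquiv.coe_det, Units.val_one, ← LinearMap.det_conj (Φ : A →ₗ[ZMod (2 ^ (m + 1))] _) Le.symm,
      ← LinearMap.det_toMatrix', Matrix.det_fin_three] at h1
    have hcol : ∀ (j : Fin 3) (a b c : ZMod (2 ^ (m + 1))), Pi.single j 1 = ![a, b, c] → ∀ i,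
        LinearMap.toMatrix' ((Le.symm : A →ₗ[ZMod (2 ^ (m + 1))] _) ∘ₗ
          (Φ : A →ₗ[ZMod (2 ^ (m + 1))] _) ∘ₗ (Le.symm.symm : _ →ₗ[ZMod (2 ^ (m + 1))] A)) i j =
        ![c * α, a + c * β, b + c * γ] i := by
      intro j a b c hj i
      rw [LinearMap.toMatrix'_apply]
      have h2 : (Pi.single j (1 : ZMod (2 ^ (m + 1))) : Fin 3 → ZMod (2 ^ (m + 1))) = ![a, b, c] := hj
      rw [h2]
      show Le.symm (Φ (L ![a, b, c])) i = _
      rw [hM]
      exact congrFun (Le.symm_apply_apply _) i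
    have e0 : (Pi.single (0 : Fin 3) (1 : ZMod (2 ^ (m + 1))) : Fin 3 → ZMod (2 ^ (m + 1))) = ![1, 0, 0] := by
      funext i; fin_cases i <;> simp
    have e1 : (Pi.single (1 : Fin 3) (1 : ZMod (2 ^ (m + 1))) : Fin 3 → ZMod (2 ^ (m + 1))) = ![0, 1, 0] := by
      funext i; fin_cases i <;> simp
    have e2 : (Pi.single (2 : Fin 3) (1 : ZMod (2 ^ (m + 1))) : Fin 3 → ZMod (2 ^ (m + 1))) = ![0, 0, 1] := by
      funext i; fin_cases i <;> simp
    simp only [hcol 0 _ _ _ e0, hcol 1 _ _ _ e1, hcol 2 _ _ _ e2] at h1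
    simpa using h1
  rw [show e₀ = L ![1, 0, 0] by rw [hL]; simp, hM, hM, hM, hM, hα] at hF4
  have hco := hLinj hF4
  have h0 := congrFun hco 0
  have h1 := congrFun hco 1
  simp at h0 h1
  obtain ⟨z, rfl⟩ := hLbij.2 x
  have hz3 : z = ![z 0, z 1, z 2] := by funext i; fin_cases i <;> rfl
  rw [hz3, hM, hα] at hx
  have hz' := hLinj hx
  have z0 := congrFun hz' 0
  have z1 := congrFun hz' 1
  simp at z0 z1
  have hb : z 1 = 0 := by linear_combination -z1 - z0 + (z 2) * h1 - (z 2) * β * h0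
  refine ⟨z 0 • e₀, ?_⟩
  rw [hL, hb, zero_smul, add_zero, map_smul, map_smul, z0]

/-- `exists_norm` for additive automorphisms. -/
theorem exists_norm' {A : Type*} [AddCommGroup A] [Finite A] {m : ℕ} (Φ a b : A ≃+ A)
    (hc : ∀ x, Φ x = a (b (a.symm (b.symm x)))) (hexp : ∀ x : A, (2 ^ (m + 1) : ℕ) • x = 0) (e₀ : A)
    (incl : Cube →+ A) (hincl : Function.Injective incl) (hΦincl : ∀ w, Φ (incl w) = incl (cF w))
    (he₀m : (2 ^ m : ℕ) • e₀ = incl (1, 0, 0)) (hcard : Nat.card A ≤ 8 ^ (m + 1))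
    (hF4 : Φ (Φ (Φ (Φ e₀))) = e₀) (x : A) (hx : Φ x = x) : ∃ w, x = w + Φ (Φ w) :=
  letI : Module (ZMod (2 ^ (m + 1))) A := AddCommGroup.zmodModule hexp
  exists_norm (Φ.toLinearEquiv (ZMod.map_smul Φ)) (a.toLinearEquiv (ZMod.map_smul a))
    (b.toLinearEquiv (ZMod.map_smul b)) (LinearEquiv.ext hc) e₀ incl hincl hΦincl he₀m hcard hF4 x hx

theorem abelian_false {S : Setup G Cube} (F : Frame S)
    (hcomm : ∀ x ∈ F.T, ∀ y ∈ F.T, x * y = y * x) : False := by
  classical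
  have hfix := F.fix_of_comm hcomm
  letI : CommGroup F.T :=
    { (inferInstance : Group F.T) with
      mul_comm := fun a b => Subtype.ext (hcomm _ a.2 _ b.2) }
  -- the exponent
  obtain ⟨n0, hn0⟩ := IsPGroup.iff_card.1 F.pgroup
  have hex : ∃ n : ℕ, ∀ x : F.T, x ^ 2 ^ n = 1 :=
    ⟨n0, fun x => by rw [← hn0]; exact pow_card_eq_one'⟩
  obtain ⟨m, hm⟩ : ∃ m, Nat.find hex = m + 1 := by
    refine Nat.exists_eq_succ_of_ne_zero fun h => ?_
    have h1 := Nat.find_spec hex ⟨S.ι (1, 0, 0), F.ι_mem _⟩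
    rw [h, pow_zero, pow_one] at h1
    exact absurd (S.eq_one_iff.1 (congrArg Subtype.val h1))
      (show ((1, 0, 0) : Cube) ≠ 0 by decide)
  set n := m + 1 with hn
  have hexp : ∀ x : F.T, x ^ 2 ^ n = 1 := hm ▸ Nat.find_spec hex
  obtain ⟨x0, hx0⟩ : ∃ x : F.T, x ^ 2 ^ m ≠ 1 := by
    have := Nat.find_min hex (show m < Nat.find hex by omega)
    push Not at this
    exact this
  obtain ⟨w0, hw0⟩ := (S.sq_eq_one ((x0 : G) ^ 2 ^ m)).1 (by
    rw [← pow_two, ← pow_mul, ← pow_succ]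
    exact congrArg Subtype.val (hexp x0))
  have hw00 : w0 ≠ 0 := fun h => hx0 (Subtype.ext (by
    rw [h, S.map_zero] at hw0
    exact hw0.symm))
  obtain ⟨i0, hi0⟩ := cY_trans w0 (1, 0, 0) hw00 (by decide)
  obtain ⟨g0, hg0, hg0a⟩ := F.cov (cY ^ (i0 : ℕ))
  set v : F.T := ⟨g0 * x0 * g0⁻¹, F.conj_mem hg0 x0.2⟩ with hv
  have hvm : ((v ^ 2 ^ m : F.T) : G) = S.ι (1, 0, 0) := by
    show (g0 * x0 * g0⁻¹) ^ 2 ^ m = _
    rw [conj_pow, ← hw0, hg0a, hi0]
  -- the action
  let ψ : F.G1 →* MulAut F.T :=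
    (F.T.normalizerMonoidHom).comp (Subgroup.inclusion F.norm)
  have hψ : ∀ (g : F.G1) (x : F.T), ((ψ g x : F.T) : G) = g * x * (g : G)⁻¹ := fun g x => rfl
  have hψeq : ∀ (g g' : F.G1) (e : Cube ≃ₗ[ZMod 2] Cube), S.Acts g e → S.Acts g' e → ψ g = ψ g' := by
    intro g g' e hg hg'
    refine MulEquiv.ext fun a => Subtype.ext ?_
    have hC : (g : G)⁻¹ * g' ∈ S.C := by
      rw [(hg.inv.mul hg').mem_C_iff, inv_mul_cancel]
    have h1 := hfix _ (mul_mem (inv_mem g.2) g'.2) hC _ a.2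
    rw [hψ, hψ]
    calc (g : G) * a * (g : G)⁻¹
        = g * ((a : G) * ((g : G)⁻¹ * g')) * (g' : G)⁻¹ := by group
      _ = g' * a * (g' : G)⁻¹ := by rw [← h1]; group
  obtain ⟨a0, ha0, ha⟩ := F.cov cA
  obtain ⟨b0, hb0, hb⟩ := F.cov cB
  let A0 : F.G1 := ⟨a0, ha0⟩
  let B0 : F.G1 := ⟨b0, hb0⟩
  let f0 : F.G1 := A0 * B0 * A0⁻¹ * B0⁻¹
  have hf0 : S.Acts f0 cF := by
    rw [cF_eq]
    exact ((ha.mul hb).mul ha.inv).mul hb.inv
  set Φ := ψ f0 with hΦ
  have hF4 : Φ (Φ (Φ (Φ v))) = v := by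
    have h1 : ψ (f0 * f0 * f0 * f0) = ψ 1 := by
      refine hψeq _ _ 1 ?_ Setup.Acts.one
      have := ((hf0.mul hf0).mul hf0).mul hf0
      rwa [show cF * cF * cF * cF = 1 by rw [mul_assoc (cF * cF), cF_sq, cT_sq]] at this
    have := DFunLike.congr_fun h1 v
    simp only [map_mul, map_one] at this
    exact this
  let incl : Cube →+ Additive F.T := AddMonoidHom.mk'
    (fun w => Additive.ofMul ⟨S.ι w, F.ι_mem w⟩) (fun a b => congrArg Additive.ofMul
      (Subtype.ext (S.map_add a b)))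
  have hcardT : Nat.card F.T ≤ 8 ^ n := by
    rw [← Subgroup.card_top (G := F.T)]
    refine card_le_eight_pow n ⊤ (fun x _ => hexp x) ?_
    refine le_trans (Nat.card_le_card_of_surjective (fun w : Cube => (⟨⟨S.ι w, F.ι_mem w⟩,
      Subtype.ext (S.ι_sq w)⟩ : {x : F.T // x * x = 1})) ?_) (le_of_eq (by simp))
    intro x
    obtain ⟨w, hw⟩ := (S.sq_eq_one _).1 (congrArg Subtype.val x.2)
    exact ⟨w, Subtype.ext (Subtype.ext hw)⟩
  -- the lift of the square
  obtain ⟨E, q, hq, he⟩ := Nat.exists_eq_two_pow_mul_odd (orderOf_pos (f0 : G)).ne'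
  have hE : 2 ≤ E := by
    by_contra hE
    have h4 : S.Acts ((f0 : G) ^ (2 * q)) 1 := by
      have : (f0 : G) ^ (2 * q) = 1 := by
        rw [← orderOf_dvd_iff_pow_eq_one, he]
        exact Nat.mul_dvd_mul_right (by
          obtain rfl | rfl : E = 0 ∨ E = 1 := by omega
          · exact one_dvd _
          · exact dvd_refl _) q
      rw [this]
      exact Setup.Acts.one
    have h5 := (hf0.pow (2 * q)).unique h4
    obtain ⟨d, rfl⟩ := hq
    rw [pow_mul, pow_two, cF_sq, pow_succ, pow_mul, pow_two, cT_sq, one_pow, one_mul] at h5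
    exact cT_ne h5
  obtain ⟨i, hi⟩ : ∃ i : ℕ, q ∣ i ∧ i % 4 = 1 := by
    rcases Nat.odd_mod_four_iff.1 (Nat.odd_iff.1 hq) with h | h
    · exact ⟨q, dvd_refl q, h⟩
    · exact ⟨q * 3, dvd_mul_right q 3, by omega⟩
  have hf2a : S.Acts ((f0 : G) ^ i) cF := by
    have h := hf0.pow i
    have h4 : cF ^ 4 = 1 := by rw [show 4 = 2 * 2 by rfl, pow_mul, pow_two, pow_two, cF_sq, cT_sq]
    rwa [← Nat.div_add_mod i 4, hi.2, pow_succ cF, pow_mul cF, h4, one_pow, one_mul,
      show 4 * (i / 4) + 1 = i by omega] at h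
  set f2 : F.G1 := f0 ^ i with hf2
  have hf2Φ : ∀ x, ψ f2 x = Φ x := fun x => congrArg (fun e : MulAut F.T => e x) (hψeq _ _ cF hf2a hf0)
  set h : G := (f2 : G) * f2 with hh
  have hha : S.Acts h cT := by rw [← cF_sq]; exact hf2a.mul hf2a
  have hcT' : h * h ∈ F.T := by
    refine F.mem _ (mul_mem (mul_mem f2.2 f2.2) (mul_mem f2.2 f2.2)) ?_ E ?_
    · rw [(hha.mul hha).mem_C_iff, cT_sq]
    · obtain ⟨d, rfl⟩ := hi.1
      rw [hh, hf2, Subgroup.coe_pow, ← pow_add, ← pow_add, ← pow_mul,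
        show (q * d + q * d + (q * d + q * d)) * 2 ^ E = 2 ^ E * q * (4 * d) by ring, ← he, pow_mul,
        pow_orderOf_eq_one, one_pow]
  have hnorm := exists_norm' (A := Additive F.T) (m := m) (MulEquiv.toAdditive Φ)
    (MulEquiv.toAdditive (ψ A0)) (MulEquiv.toAdditive (ψ B0)) (fun x => ?_)
    (fun x => hexp (Additive.toMul x)) (Additive.ofMul v) incl
    (fun w w' h => S.inj (congrArg (fun a : Additive F.T => ((a.toMul : F.T) : G)) h))
    (fun w => Additive.toMul.injective (Subtype.ext (hf0 w)))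
    (congrArg Additive.ofMul (Subtype.ext hvm))
    (le_of_eq_of_le (Nat.card_congr Additive.toMul) hcardT)
    (congrArg Additive.ofMul hF4) (Additive.ofMul ⟨h * h, hcT'⟩) ?_
  rotate_left
  · show Additive.ofMul (ψ (A0 * B0 * A0⁻¹ * B0⁻¹) x.toMul) = _
    rw [map_mul, map_mul, map_mul, map_inv, map_inv]
    rfl
  · show Additive.ofMul (Φ ⟨h * h, hcT'⟩) = _
    refine congrArg Additive.ofMul (Subtype.ext ?_)
    rw [← hf2Φ, hψ]
    show (f2 : G) * (h * h) * (f2 : G)⁻¹ = h * h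
    rw [hh]
    group
  obtain ⟨w', hw'⟩ := hnorm
  set w : F.T := Additive.toMul w' with hw
  have hh2 : h * h = (w : G) * (h * w * h⁻¹) := by
    have := congrArg (fun a : Additive F.T => ((a.toMul : F.T) : G)) hw'
    refine this.trans ?_
    show (w : G) * ((Φ (Φ w) : F.T) : G) = _
    rw [← hf2Φ, ← hf2Φ, hψ, hψ, hh]
    group
  have hwc : h * (w : G) * h⁻¹ ∈ F.T := F.conj_mem (mul_mem f2.2 f2.2) w.2
  have hsq : ((w : G)⁻¹ * h) * ((w : G)⁻¹ * h) = 1 := by
    calc ((w : G)⁻¹ * h) * ((w : G)⁻¹ * h) = (w : G)⁻¹ * (h * w * h⁻¹)⁻¹ * (h * h) := by group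
      _ = (w : G)⁻¹ * ((h * w * h⁻¹)⁻¹ * w) * (h * w * h⁻¹) := by rw [hh2]; group
      _ = (w : G)⁻¹ * (w * (h * w * h⁻¹)⁻¹) * (h * w * h⁻¹) := by
        rw [hcomm _ (inv_mem hwc) _ w.2]
      _ = 1 := by group
  have hhC : h ∈ S.C := by
    have := mul_mem (F.le_C w.2) (S.mem_C_of_sq hsq)
    rwa [mul_inv_cancel_left] at this
  exact cT_ne (hha.mem_C_iff.1 hhC)

end Cfsg.Agent.Lib.PrimeInvol7
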