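import Cfsg.Agent.Lib.PrimeInvol7.Sq

/-!
# The squaring map of a 2-group whose involutions form its centre and are permuted transitively
-/

set_option autoImplicit false
set_option linter.style.haveILetI false
set_option linter.unusedSectionVars false

namespace Cfsg.Agent.Lib.PrimeInvol7

open Subgroup Module
open scoped commutatorElement

/-- Non-abelian 2-groups with `T' ≤ Z(T)`, `T² ≤ Z(T) = {x | x² = 1}` and transitive automorphisms
on the involutions. -/
structure Suz (T : Type*) [Group T] : Prop where
  mem_center : ∀ x : T, x ∈ center T ↔ x * x = 1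
  sq_mem : ∀ x : T, x * x ∈ center T
  comm_mem : ∀ x y : T, ⁅x, y⁆ ∈ center T
  trans : ∀ x y : T, x ≠ 1 → x * x = 1 → y ≠ 1 → y * y = 1 → ∃ a : MulAut T, a x = y
  nc : ∃ x y : T, x * y ≠ y * x

namespace Suz

variable {T : Type*} [Group T] (h : Suz T)
include h

theorem mul_sq (a b : T) : a * b * (a * b) = a * a * (b * b) * ⁅b, a⁆ := by
  calc a * b * (a * b) = a * ⁅b, a⁆ * (a * b * b) := by simp only [commutatorElement_def]; group
    _ = a * ⁅b, a⁆ * a * (b * b) := by group
    _ = a * (⁅b, a⁆ * a) * (b * b) := by group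
    _ = a * (a * ⁅b, a⁆) * (b * b) := by rw [mem_center_iff.1 (h.comm_mem b a) a]
    _ = a * a * (⁅b, a⁆ * (b * b)) := by group
    _ = a * a * ((b * b) * ⁅b, a⁆) := by
      rw [mem_center_iff.1 (h.comm_mem b a) (b * b)]
    _ = _ := by group

theorem sq_eq_of_mem {a b : T} (hab : a⁻¹ * b ∈ center T) : a * a = b * b := by
  have hz := (h.mem_center _).1 hab
  have hc := mem_center_iff.1 hab a
  calc a * a = a * a * ((a⁻¹ * b) * (a⁻¹ * b)) := by rw [hz, mul_one]
    _ = a * (a * (a⁻¹ * b)) * (a⁻¹ * b) := by group
    _ = a * ((a⁻¹ * b) * a) * (a⁻¹ * b) := by rw [hc]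
    _ = b * b := by group

/-- The dichotomy: squaring is injective modulo the centre, or odd automorphisms trivial on the
centre act semiregularly modulo the centre. -/
theorem dichotomy [Finite T] :
    (∀ x y : T, x * x = y * y → x⁻¹ * y ∈ center T) ∨
      (Nat.card T = Nat.card (center T) ^ 3 ∧ ∀ k : MulAut T, Odd (orderOf k) →
        (∀ z ∈ center T, k z = z) → ∀ x : T, x ∉ center T → x⁻¹ * k x ∈ center T →
          ∀ y : T, y⁻¹ * k y ∈ center T) := by
  classical
  let A := T ⧸ center T
  letI : CommGroup A :=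
    { (inferInstance : Group A) with
      mul_comm := fun a b => by
        obtain ⟨a, rfl⟩ := QuotientGroup.mk_surjective a
        obtain ⟨b, rfl⟩ := QuotientGroup.mk_surjective b
        rw [← QuotientGroup.mk_mul, ← QuotientGroup.mk_mul, QuotientGroup.eq]
        convert h.comm_mem b⁻¹ a⁻¹ using 1
        rw [commutatorElement_def]
        group }
  letI : CommGroup (center T) :=
    { (inferInstance : Group (center T)) with
      mul_comm := fun a b => Subtype.ext (mem_center_iff.1 b.2 a) }
  letI : Module (ZMod 2) (Additive A) := AddCommGroup.zmodModule fun a => by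
    obtain ⟨a, rfl⟩ := Additive.ofMul.surjective a
    obtain ⟨a, rfl⟩ := QuotientGroup.mk_surjective a
    rw [two_nsmul, ← ofMul_mul, ← QuotientGroup.mk_mul, (QuotientGroup.eq_one_iff _).2 (h.sq_mem a)]
    rfl
  letI : Module (ZMod 2) (Additive (center T)) := AddCommGroup.zmodModule fun a => by
    obtain ⟨a, rfl⟩ := Additive.ofMul.surjective a
    rw [two_nsmul, ← ofMul_mul, show a * a = 1 from Subtype.ext ((h.mem_center _).1 a.2)]
    rfl
  let sq : T → Additive (center T) := fun a => Additive.ofMul ⟨a * a, h.sq_mem a⟩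
  let cm : T → T → Additive (center T) := fun a b => Additive.ofMul ⟨⁅b, a⁆, h.comm_mem b a⟩
  have hsqmul : ∀ a b, sq (a * b) = sq a + sq b + cm a b := fun a b => by
    show Additive.ofMul _ = Additive.ofMul _ + Additive.ofMul _ + Additive.ofMul _
    rw [← ofMul_mul, ← ofMul_mul]
    exact congrArg Additive.ofMul (Subtype.ext (h.mul_sq a b))
  have hcm : ∀ a a' b, cm (a * a') b = cm a b + cm a' b := fun a a' b => by
    show Additive.ofMul _ = Additive.ofMul _ + Additive.ofMul _
    rw [← ofMul_mul]
    refine congrArg Additive.ofMul (Subtype.ext ?_)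
    show ⁅b, a * a'⁆ = ⁅b, a⁆ * ⁅b, a'⁆
    calc ⁅b, a * a'⁆ = ⁅b, a⁆ * (a * ⁅b, a'⁆ * a⁻¹) := by simp only [commutatorElement_def]; group
      _ = _ := by rw [mem_center_iff.1 (h.comm_mem b a') a]; group
  let π : T → Additive A := fun a => Additive.ofMul (a : A)
  have hπ : Function.Surjective π := fun v => by
    obtain ⟨v, rfl⟩ := Additive.ofMul.surjective v
    obtain ⟨v, rfl⟩ := QuotientGroup.mk_surjective v
    exact ⟨v, rfl⟩
  have hπmul : ∀ a b, π (a * b) = π a + π b := fun a b => rfl
  have hπeq : ∀ a b, π a = π b ↔ a⁻¹ * b ∈ center T := fun a b =>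
    Additive.ofMul.apply_eq_iff_eq.trans QuotientGroup.eq
  let rep := Function.surjInv hπ
  have hrep : ∀ v, π (rep v) = v := Function.surjInv_eq hπ
  let q : Additive A → Additive (center T) := fun v => sq (rep v)
  have hq : ∀ a, q (π a) = sq a := fun a =>
    congrArg Additive.ofMul (Subtype.ext (h.sq_eq_of_mem ((hπeq _ _).1 (hrep _))))
  let b : Additive A → Additive A → Additive (center T) := fun u v => q (u + v) - q u - q v
  have hb : ∀ a a', b (π a) (π a') = cm a a' := fun a a' => by
    show q _ - q _ - q _ = _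
    rw [← hπmul, hq, hq, hq, hsqmul]
    abel
  let Q : SqForm (Additive A) (Additive (center T)) :=
    { q := q
      b := b
      q_add := fun u v => by show _ = _ + _ + (_ - _ - _); abel
      b_add := fun u u' v => by
        obtain ⟨a, rfl⟩ := hπ u
        obtain ⟨a', rfl⟩ := hπ u'
        obtain ⟨c, rfl⟩ := hπ v
        rw [← hπmul, hb, hb, hb, hcm]
      anis := fun v hv => by
        obtain ⟨a, rfl⟩ := hπ v
        rw [hq] at hv
        have h1 : a * a = 1 := congrArg (fun t : Additive (center T) => ((t.toMul : center T) : T)) hv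
        exact congrArg Additive.ofMul ((QuotientGroup.eq_one_iff a).2 ((h.mem_center a).2 h1)) }
  have hcard : ∀ H : Type _, Nat.card (Additive H) = Nat.card H := fun H => Nat.card_congr Additive.toMul
  have hU : Uniform Q.q := by
    intro z z' hz hz'
    have hne : ∀ w : Additive (center T), w ≠ 0 →
        ((w.toMul : center T) : T) ≠ 1 ∧ ((w.toMul : center T) : T) * w.toMul = 1 := fun w hw =>
      ⟨fun e => hw (toMul_eq_one.1 (Subtype.ext e)), (h.mem_center _).1 w.toMul.2⟩
    obtain ⟨α, hα⟩ := h.trans _ _ (hne z hz).1 (hne z hz).2 (hne z' hz').1 (hne z' hz').2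
    have hmap : (center T).map α.toMonoidHom = center T :=
      Subgroup.characteristic_iff_map_eq.1 Subgroup.centerCharacteristic α
    let αA : A ≃* A := QuotientGroup.congr (center T) (center T) α hmap
    refine Nat.card_congr (Equiv.subtypeEquiv (MulEquiv.toAdditive αA).toEquiv fun v => ?_)
    obtain ⟨a, rfl⟩ := hπ v
    have hv : (MulEquiv.toAdditive αA).toEquiv (π a) = π (α a) := rfl
    rw [hv]
    show q (π a) = z ↔ q (π (α a)) = z'
    rw [hq, hq]
    have key : ∀ (c : T) (w : Additive (center T)), sq c = w ↔ c * c = ((w.toMul : center T) : T) :=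
      fun c w => ⟨fun e => e ▸ rfl, fun e => Additive.toMul.injective (Subtype.ext e)⟩
    rw [key, key, ← map_mul, ← hα]
    exact α.injective.eq_iff.symm
  have hZne : ∃ z : center T, z ≠ 1 := by
    obtain ⟨a, c, hac⟩ := h.nc
    exact ⟨⟨⁅a, c⁆, h.comm_mem a c⟩, fun e => hac (commutatorElement_eq_one_iff_mul_comm.1
      (congrArg Subtype.val e))⟩
  have hm : 0 < finrank (ZMod 2) (Additive (center T)) := by
    obtain ⟨z, hz⟩ := hZne
    exact Module.finrank_pos_iff_exists_ne_zero.2 ⟨Additive.ofMul z, fun e => hz (ofMul_eq_zero.1 e)⟩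
  have hn : 0 < finrank (ZMod 2) (Additive A) := by
    obtain ⟨a, c, hac⟩ := h.nc
    refine Module.finrank_pos_iff_exists_ne_zero.2 ⟨π a, fun e => hac ?_⟩
    exact (mem_center_iff.1 ((QuotientGroup.eq_one_iff a).1 (ofMul_eq_zero.1 e)) c).symm
  rcases Q.finrank_cases hU hm hn with hn1 | hn2
  · left
    intro x y hxy
    refine (hπeq x y).1 (Q.injective_of_finrank_eq hU hn1 ?_)
    show q (π x) = q (π y)
    rw [hq, hq]
    exact congrArg Additive.ofMul (Subtype.ext hxy)
  · right
    refine ⟨?_, fun k hk hkz x hx hkx y => ?_⟩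
    · rw [Subgroup.card_eq_card_quotient_mul_card_subgroup (center T)]
      have e1 := SqForm.card_eq_two_pow (Additive A)
      have e2 := SqForm.card_eq_two_pow (Additive (center T))
      rw [hcard] at e1 e2
      rw [show Nat.card (T ⧸ center T) = Nat.card A from rfl, e1, e2, hn2]
      ring
    · have hmap : (center T).map k.toMonoidHom = center T :=
        Subgroup.characteristic_iff_map_eq.1 Subgroup.centerCharacteristic k
      let kV : Additive A ≃+ Additive A :=
        MulEquiv.toAdditive (QuotientGroup.congr (center T) (center T) k hmap)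
      have hkπ : ∀ a, kV (π a) = π (k a) := fun a => rfl
      have hiter : ∀ (i : ℕ) (a : T), kV^[i] (π a) = π ((k ^ i) a) := by
        intro i
        induction i with
        | zero => intro a; rfl
        | succ i ih =>
          intro a
          rw [Function.iterate_succ_apply, hkπ, ih, pow_succ]
          rfl
      have key := Q.semiregular hU hn2 kV
        (fun v => by
          obtain ⟨a, rfl⟩ := hπ v
          show q (kV (π a)) = q (π a)
          rw [hkπ, hq, hq]
          refine congrArg Additive.ofMul (Subtype.ext ?_)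
          show k a * k a = a * a
          rw [← map_mul]
          exact hkz _ (h.sq_mem a))
        hk
        (fun v => by
          obtain ⟨a, rfl⟩ := hπ v
          rw [hiter, pow_orderOf_eq_one]
          rfl)
        (v := π x)
        (fun e => hx ((QuotientGroup.eq_one_iff x).1 (ofMul_eq_zero.1 e)))
        (by rw [hkπ]; exact ((hπeq x (k x)).2 hkx).symm)
      exact (hπeq y (k y)).1 ((key (π y)).symm.trans (hkπ y))

end Suz

end Cfsg.Agent.Lib.PrimeInvol7
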