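import Mathlib
import Cfsg.Agent.S3776
import Cfsg.Agent.Lib.PGroups.Frattini
import Cfsg.Agent.Lib.PrimeInvol7.Squaring

/-!
# A cyclic group transitive on a set of prime size; Suzuki 2-groups from it
-/

set_option autoImplicit false
set_option linter.style.haveILetI false

namespace Cfsg.Agent.Lib.PrimeInvol7

open Subgroup MulAction
open scoped commutatorElement

/-- A group transitive on a set of prime size has an element transitive on it. -/
theorem exists_mover {H X : Type*} [Group H] [MulAction H X] [Finite H] [Finite X]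
    [IsPretransitive H X] {p : ℕ} [hp : Fact p.Prime] (hX : Nat.card X = p) :
    ∃ g : H, ∀ x y : X, ∃ i : ℕ, g ^ i • x = y := by
  haveI : Nonempty X := (Nat.card_ne_zero.1 (hX ▸ hp.out.ne_zero)).1
  obtain ⟨x0⟩ := ‹Nonempty X›
  set f := toPermHom H X
  have hdvd : p ∣ Nat.card f.range := by
    haveI : IsPretransitive f.range X := ⟨fun x y => by
      obtain ⟨g, hg⟩ := exists_smul_eq H x y
      exact ⟨⟨f g, g, rfl⟩, hg⟩⟩
    rw [← hX, ← index_stabilizer_of_transitive (G := f.range) x0]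
    exact Subgroup.index_dvd_card _
  obtain ⟨⟨_, g, rfl⟩, hσ⟩ := exists_prime_orderOf_dvd_card' p hdvd
  replace hσ : orderOf (f g) = p := (Subgroup.orderOf_coe _).trans hσ
  obtain ⟨x1, hx1⟩ : ∃ x : X, g • x ≠ x := by
    by_contra h
    push Not at h
    have h1 : f g = 1 := Equiv.ext h
    rw [h1, orderOf_one] at hσ
    exact hp.out.one_lt.ne hσ
  set Z := zpowers (f g)
  haveI : Nonempty (orbit Z x1) := ⟨⟨x1, mem_orbit_self x1⟩⟩
  have horb : Nat.card (orbit Z x1) = p := by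
    have h1 : Nat.card (orbit Z x1) ∣ p := by
      rw [← hσ, ← Nat.card_zpowers, Nat.card_coe_set_eq, ← index_stabilizer]
      exact Subgroup.index_dvd_card _
    refine ((Nat.dvd_prime hp.out).1 h1).resolve_left fun h2 => hx1 ?_
    haveI := (Nat.card_eq_one_iff_unique.1 h2).1
    exact congrArg Subtype.val (Subsingleton.elim
      (⟨g • x1, ⟨f g, mem_zpowers _⟩, rfl⟩ : orbit Z x1) ⟨x1, mem_orbit_self x1⟩)
  have hall : ∀ x : X, ∃ i : ℕ, g ^ i • x1 = x := by
    intro x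
    have h : orbit Z x1 = Set.univ := (Set.toFinite _).eq_of_subset_of_card_le (Set.subset_univ _)
      (by rw [horb, Nat.card_univ, hX])
    obtain ⟨⟨s, hs⟩, hsx⟩ := (h ▸ Set.mem_univ x : x ∈ orbit Z x1)
    obtain ⟨i, rfl⟩ := mem_powers_iff_mem_zpowers.2 hs
    refine ⟨i, ?_⟩
    rw [← hsx]
    show g ^ i • x1 = (f g ^ i) x1
    rw [← map_pow]
    rfl
  refine ⟨g, fun x y => ?_⟩
  obtain ⟨i, hi⟩ := hall x
  obtain ⟨j, hj⟩ := hall y
  refine ⟨(orderOf g - 1) * i + j, ?_⟩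
  rw [← hi, smul_smul, ← pow_add, ← hj]
  congr 1
  have h0 := orderOf_pos g
  have : (orderOf g - 1) * i + j + i = orderOf g * i + j := by
    obtain ⟨d, hd⟩ : ∃ d, orderOf g = d + 1 := ⟨orderOf g - 1, by omega⟩
    rw [hd, Nat.add_sub_cancel]
    ring
  rw [this, pow_add, pow_mul, pow_orderOf_eq_one, one_pow, one_mul]

/-- A non-abelian 2-group with at least two involutions and a cyclic group of automorphisms
transitive on them satisfies `Suz`. -/
theorem suz_of_cyclic {T : Type*} [Group T] [Finite T] (hT : IsPGroup 2 T)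
    (hnc : ∃ x y : T, x * y ≠ y * x) (a : MulAut T)
    (htwo : ∃ x y : T, x ≠ y ∧ x ≠ 1 ∧ x * x = 1 ∧ y ≠ 1 ∧ y * y = 1)
    (htrans : ∀ x y : T, x ≠ 1 → x * x = 1 → y ≠ 1 → y * y = 1 → ∃ i : ℕ, (a ^ i) x = y) :
    Suz T := by
  obtain ⟨u, v, huv⟩ := hnc
  obtain ⟨x, y, hxy, hx1, hx, hy1, hy⟩ := htwo
  have hsol : Group.IsSolvable (zpowers a) :=
    Group.isSolvable_of_comm fun b c => mul_comm' b c
  have h := Cfsg.Agent.S3776.result (G := T) hT (fun hc => huv ((hc.is_comm).comm u v))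
    ⟨x, y, hxy, hx1, by rw [sq, hx], hy1, by rw [sq, hy]⟩
    ⟨zpowers a, hsol, fun b c hb hb2 hc hc2 => by
      obtain ⟨i, hi⟩ := htrans b c hb (by rwa [sq] at hb2) hc (by rwa [sq] at hc2)
      exact ⟨a ^ i, Subgroup.npow_mem_zpowers a i, hi⟩⟩
  obtain ⟨h1, h2, h3⟩ := h
  haveI : Fact (Nat.Prime 2) := ⟨Nat.prime_two⟩
  refine ⟨fun b => by rw [h3 b, sq], fun b => ?_, fun b c => ?_,
    fun b c hb hb2 hc hc2 => ?_, ⟨u, v, huv⟩⟩
  · rw [← h2, ← sq]
    exact PGroups.pow_mem_frattini hT b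
  · rw [← h2, ← h1]
    exact Subgroup.commutator_mem_commutator (mem_top b) (mem_top c)
  · obtain ⟨i, hi⟩ := htrans b c hb hb2 hc hc2
    exact ⟨_, hi⟩

end Cfsg.Agent.Lib.PrimeInvol7
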