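import Mathlib
import Cfsg.Agent.S0205
import Cfsg.Agent.S0217
import Cfsg.Agent.Lib.Involutions.Basic
import Cfsg.Agent.Lib.SolvCentAb12.Lift

/-!
# Elementary abelian Sylow 2-subgroup with semiregular automiser

A perfect group with an elementary abelian Sylow 2-subgroup `P` of order at least 8, in which no
non-trivial element of `N(P)/C(P)` fixes a non-identity element of `P`, has one class of involutions.
-/

set_option autoImplicit false
set_option linter.style.haveILetI false
set_option linter.unusedSectionVars false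

namespace Cfsg.Agent.Lib.PrimeInvol7

open Subgroup Cfsg.Agent.Lib.Involutions.Basic

universe u

variable {Q : Type u} [Group Q] [Finite Q]

/-- The subgroup generated by the elements of odd order centralising `a`. -/
def oddCent (a : Q) : Subgroup Q :=
  closure {x : Q | x * a = a * x ∧ Odd (orderOf x)}

theorem oddCent_le (a : Q) : oddCent a ≤ centralizer ({a} : Set Q) :=
  (closure_le _).2 fun _ hx => mem_centralizer_singleton_iff.2 hx.1

theorem mem_oddCent {a x : Q} (h : x * a = a * x) (ho : Odd (orderOf x)) : x ∈ oddCent a :=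
  subset_closure ⟨h, ho⟩

theorem conj_mem_oddCent {a g x : Q} (hx : x ∈ oddCent a) :
    g * x * g⁻¹ ∈ oddCent (g * a * g⁻¹) := by
  have h : oddCent a ≤ (oddCent (g * a * g⁻¹)).comap (MulAut.conj g).toMonoidHom := by
    refine (closure_le _).2 fun y hy => ?_
    rw [SetLike.mem_coe, mem_comap]
    refine mem_oddCent ?_ ?_
    · show g * y * g⁻¹ * (g * a * g⁻¹) = g * a * g⁻¹ * (g * y * g⁻¹)
      calc g * y * g⁻¹ * (g * a * g⁻¹) = g * (y * a) * g⁻¹ := by group
        _ = g * (a * y) * g⁻¹ := by rw [hy.1]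
        _ = _ := by group
    · show Odd (orderOf (g * y * g⁻¹))
      rw [orderOf_conj_eq]
      exact hy.2
  exact h hx

/-- Burnside inside the centraliser of `a`: a normal odd complement. -/
theorem exists_centralizer_complement (P : Sylow 2 Q) (hPc : IsMulCommutative (P : Subgroup Q))
    (hfree : ∀ a ∈ (P : Subgroup Q), a ≠ 1 → ∀ n ∈ normalizer ((P : Subgroup Q) : Set Q),
      n * a = a * n → ∀ x ∈ (P : Subgroup Q), n * x = x * n)
    {a : Q} (ha : a ∈ (P : Subgroup Q)) (ha1 : a ≠ 1) :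
    Odd (Nat.card (oddCent a)) ∧ oddCent a ⊔ (P : Subgroup Q) = centralizer ({a} : Set Q) := by
  haveI : Fact (Nat.Prime 2) := ⟨Nat.prime_two⟩
  haveI := hPc
  have hPC : (P : Subgroup Q) ≤ centralizer ({a} : Set Q) := fun x hx =>
    mem_centralizer_singleton_iff.2 (congrArg Subtype.val
      (mul_comm' (⟨x, hx⟩ : (P : Subgroup Q)) ⟨a, ha⟩))
  set C := centralizer ({a} : Set Q)
  set P' : Sylow 2 C := P.subtype hPC
  have hmem : ∀ x : C, x ∈ (P' : Subgroup C) ↔ (x : Q) ∈ (P : Subgroup Q) := fun _ => Iff.rfl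
  have hP' : normalizer ((P' : Subgroup C) : Set C) ≤ centralizer ((P' : Subgroup C) : Set C) := by
    intro n hn x hx
    have hn' : (n : Q) ∈ normalizer ((P : Subgroup Q) : Set Q) := by
      rw [mem_normalizer_iff] at hn ⊢
      intro y
      constructor
      · intro hy
        exact (hmem _).1 ((hn ⟨y, hPC hy⟩).1 hy)
      · intro hy
        have hyC : y ∈ C := by
          have := C.mul_mem (C.mul_mem (C.inv_mem n.2) (hPC hy)) n.2
          simpa [mul_assoc] using this
        exact (hmem _).1 ((hn ⟨y, hyC⟩).2 hy)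
    exact Subtype.ext (hfree a ha ha1 n hn' (mem_centralizer_singleton_iff.1 n.2) x
      ((hmem x).1 hx)).symm
  set K := (MonoidHom.transferSylow P' hP').ker
  have hK : IsComplement' K (P' : Subgroup C) := MonoidHom.ker_transferSylow_isComplement' P' hP'
  have hKodd : Odd (Nat.card K) := Nat.not_even_iff_odd.1 fun he =>
    MonoidHom.not_dvd_card_ker_transferSylow P' hP' he.two_dvd
  have heq : oddCent a = K.map C.subtype := by
    refine le_antisymm ((closure_le _).2 fun x hx => ?_) ?_
    · have hxC : x ∈ C := mem_centralizer_singleton_iff.2 hx.1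
      refine ⟨⟨x, hxC⟩, ?_, rfl⟩
      rw [SetLike.mem_coe, MonoidHom.mem_ker, ← orderOf_eq_one_iff]
      have h1 : orderOf (MonoidHom.transferSylow P' hP' ⟨x, hxC⟩) ∣ orderOf x := by
        have := orderOf_map_dvd (MonoidHom.transferSylow P' hP') ⟨x, hxC⟩
        rwa [← Subgroup.orderOf_coe (⟨x, hxC⟩ : C)] at this
      obtain ⟨j, hj⟩ := IsPGroup.iff_orderOf.1 P'.isPGroup' (MonoidHom.transferSylow P' hP' ⟨x, hxC⟩)
      rw [hj] at h1 ⊢
      rcases Nat.eq_zero_or_pos j with rfl | hj0
      · rfl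
      · exact absurd (even_iff_two_dvd.2 ((dvd_pow_self 2 hj0.ne').trans h1))
          (Nat.not_even_iff_odd.2 hx.2)
    · rintro _ ⟨x, hx, rfl⟩
      refine mem_oddCent (mem_centralizer_singleton_iff.1 x.2) ?_
      rw [Subgroup.coe_subtype, Subgroup.orderOf_coe]
      exact Odd.of_dvd_nat hKodd (Subgroup.orderOf_dvd_natCard K hx)
  refine ⟨?_, ?_⟩
  · rw [heq, Subgroup.card_map_of_injective C.subtype_injective]
    exact hKodd
  · have hP'' : (P' : Subgroup C).map C.subtype = (P : Subgroup Q) := by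
      rw [P.coe_subtype, subgroupOf_map_subtype, inf_of_le_left hPC]
    rw [heq]
    calc K.map C.subtype ⊔ (P : Subgroup Q) = K.map C.subtype ⊔ (P' : Subgroup C).map C.subtype := by
          rw [hP'']
      _ = (K ⊔ (P' : Subgroup C)).map C.subtype := (Subgroup.map_sup _ _ _).symm
      _ = C := by rw [hK.sup_eq_top, ← MonoidHom.range_eq_map, Subgroup.range_subtype]

/-- A perfect group with elementary abelian Sylow 2-subgroup of order at least 8 and semiregular
automiser cannot have two classes of involutions. -/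
theorem false_of_two_classes (P : Sylow 2 Q) (hPc : IsMulCommutative (P : Subgroup Q))
    (hP2 : ∀ x ∈ (P : Subgroup Q), x * x = 1) (h8 : 8 ≤ Nat.card (P : Subgroup Q))
    (hfree : ∀ a ∈ (P : Subgroup Q), a ≠ 1 → ∀ n ∈ normalizer ((P : Subgroup Q) : Set Q),
      n * a = a * n → ∀ x ∈ (P : Subgroup Q), n * x = x * n)
    (hperf : commutator Q = ⊤)
    {x y : Q} (hx : x ∈ (P : Subgroup Q)) (hy : y ∈ (P : Subgroup Q)) (hxo : orderOf x = 2)
    (hyo : orderOf y = 2) (hxy : ¬ IsConj x y) : False := by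
  haveI : Fact (Nat.Prime 2) := ⟨Nat.prime_two⟩
  haveI := hPc
  have hcomm : ∀ a ∈ (P : Subgroup Q), ∀ b ∈ (P : Subgroup Q), a * b = b * a := fun a ha b hb =>
    congrArg Subtype.val (mul_comm' (⟨a, ha⟩ : (P : Subgroup Q)) ⟨b, hb⟩)
  have hcompl := fun a ha ha1 => exists_centralizer_complement P hPc hfree (a := a) ha ha1
  set θ : Q → Subgroup Q := oddCent
  have hSF := S0217.result (p := 2) (P : Subgroup Q) hcomm
    (fun a ha => by rw [sq]; exact hP2 a ha) (by simpa using h8) θ
    (fun a _ _ => oddCent_le a)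
    (fun a ha ha1 hd => Nat.not_even_iff_odd.2 (hcompl a ha ha1).1 (even_iff_two_dvd.2 hd))
    (fun a ha _ b hb w hw => by
      have h1 := conj_mem_oddCent (g := b) hw
      rwa [hcomm b hb a ha, mul_inv_cancel_right] at h1)
    (fun a ha ha1 => S0205.result (hcompl a ha ha1).1)
    (fun a ha ha1 b _ _ w hw => mem_oddCent (mem_centralizer_singleton_iff.1 hw.2) (by
      have h1 : orderOf w ∣ Nat.card (θ a) := Subgroup.orderOf_dvd_natCard _ hw.1
      exact Odd.of_dvd_nat (hcompl a ha ha1).1 h1))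
  set W : Subgroup Q := ⨆ a : {a : Q // a ∈ (P : Subgroup Q) ∧ a ≠ 1}, θ a
  have hWodd : Odd (Nat.card W) := Nat.not_even_iff_odd.1 fun he => hSF.1 he.two_dvd
  have hθW : ∀ a ∈ (P : Subgroup Q), a ≠ 1 → θ a ≤ W := fun a ha ha1 =>
    le_iSup (fun a : {a : Q // a ∈ (P : Subgroup Q) ∧ a ≠ 1} => θ a) ⟨a, ha, ha1⟩
  set M := normalizer (W : Set Q)
  -- the normaliser of `P` permutes the generators of `W`
  have hNM : normalizer ((P : Subgroup Q) : Set Q) ≤ M := by
    intro n hn
    have key : ∀ m ∈ normalizer ((P : Subgroup Q) : Set Q),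
        W.map (MulAut.conj m).toMonoidHom ≤ W := by
      intro m hm
      rw [Subgroup.map_iSup, iSup_le_iff]
      rintro ⟨a, ha, ha1⟩ _ ⟨w, hw, rfl⟩
      refine hθW (m * a * m⁻¹) ((mem_normalizer_iff.1 hm a).1 ha) (fun h => ha1 ?_)
        (conj_mem_oddCent hw)
      rwa [mul_inv_eq_one, mul_eq_left] at h
    refine mem_normalizer_iff.2 fun w => ⟨fun hw => key n hn ⟨w, hw, rfl⟩, fun hw => ?_⟩
    have h1 := key n⁻¹ (inv_mem hn) ⟨n * w * n⁻¹, hw, rfl⟩
    simpa [mul_assoc] using h1
  have hPM : (P : Subgroup Q) ≤ M := le_trans le_normalizer hNM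
  have hCM : ∀ a ∈ (P : Subgroup Q), a ≠ 1 → centralizer ({a} : Set Q) ≤ M := fun a ha ha1 => by
    rw [← (hcompl a ha ha1).2]
    exact sup_le ((hθW a ha ha1).trans le_normalizer) hPM
  have hx1 := invol_ne_one hxo
  have hy1 := invol_ne_one hyo
  -- every conjugate of `y` meets the centraliser of `x` through an involution
  have hmid : ∀ g : Q, ∃ w : Q, orderOf w = 2 ∧ w * x = x * w ∧
      (g * y * g⁻¹) * w = w * (g * y * g⁻¹) := by
    intro g
    have hg2 : orderOf (g * y * g⁻¹) = 2 := by rw [orderOf_conj_eq, hyo]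
    have hnc : ¬ IsConj x (g * y * g⁻¹) := fun h =>
      hxy (h.trans (isConj_iff.2 ⟨g⁻¹, by group⟩))
    obtain ⟨h1, h2, h3⟩ := central_invol hxo hg2 (even_of_not_isConj hxo hg2 hnc)
    exact ⟨_, h1, h2.eq, h3.eq.symm⟩
  by_cases hMtop : M = ⊤
  · haveI : W.Normal := normalizer_eq_top_iff.1 hMtop
    set π := QuotientGroup.mk' W
    have hπ : Function.Surjective π := QuotientGroup.mk'_surjective W
    set R := (P : Subgroup Q).map π
    have hinj : ∀ a ∈ (P : Subgroup Q), π a = 1 → a = 1 := fun a ha h => by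
      by_contra ha1
      have h2 := Subgroup.orderOf_dvd_natCard W ((QuotientGroup.eq_one_iff a).1 h)
      rw [orderOf_eq_prime (by rw [sq]; exact hP2 a ha) ha1] at h2
      exact Nat.not_even_iff_odd.2 hWodd (even_iff_two_dvd.2 h2)
    have hCR : ∀ a ∈ (P : Subgroup Q), a ≠ 1 → centralizer ({π a} : Set (Q ⧸ W)) ≤ R := by
      intro a ha ha1
      show centralizer ({(QuotientGroup.mk a : Q ⧸ W)} : Set (Q ⧸ W)) ≤ R
      rw [← SolvCentAb12.map_centralizer_invol W hWodd
        (orderOf_eq_prime (by rw [sq]; exact hP2 a ha) ha1), ← (hcompl a ha ha1).2, Subgroup.map_sup]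
      refine sup_le ?_ le_rfl
      rw [Subgroup.map_le_iff_le_comap]
      intro w hw
      rw [mem_comap, show π w = 1 from (QuotientGroup.eq_one_iff w).2 (hθW a ha ha1 hw)]
      exact one_mem _
    have hRc : ∀ a ∈ R, ∀ b ∈ R, a * b = b * a := by
      rintro _ ⟨a, ha, rfl⟩ _ ⟨b, hb, rfl⟩
      rw [← map_mul, ← map_mul, hcomm a ha b hb]
    set Z := Subgroup.normalClosure ({π y} : Set (Q ⧸ W))
    have hZR : Z ≤ R := by
      refine (closure_le _).2 fun v hv => ?_
      obtain ⟨u, hu, huv⟩ := Group.mem_conjugatesOfSet_iff.1 hv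
      rw [Set.mem_singleton_iff] at hu
      subst hu
      obtain ⟨h, hh⟩ := isConj_iff.1 huv
      obtain ⟨g, rfl⟩ := hπ h
      obtain ⟨w, hw2, hwx, hwy⟩ := hmid g
      have hwR : π w ∈ R := hCR x hx hx1 (mem_centralizer_singleton_iff.2 (by
        rw [← map_mul, ← map_mul, hwx]))
      obtain ⟨w', hw', hww⟩ := hwR
      have hw'1 : w' ≠ 1 := fun h0 => by
        rw [h0, map_one] at hww
        have h2 := Subgroup.orderOf_dvd_natCard W ((QuotientGroup.eq_one_iff w).1 hww.symm)
        rw [hw2] at h2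
        exact Nat.not_even_iff_odd.2 hWodd (even_iff_two_dvd.2 h2)
      rw [SetLike.mem_coe, ← hh]
      refine hCR w' hw' hw'1 (mem_centralizer_singleton_iff.2 ?_)
      rw [hww, ← map_mul, ← map_inv, ← map_mul, ← map_mul, ← map_mul, hwy]
    have hRnorm : R.Normal := by
      have hle : centralizer (Z : Set (Q ⧸ W)) ≤ R := fun v hv =>
        hCR y hy hy1 (mem_centralizer_singleton_iff.2
          (hv _ (subset_normalClosure rfl)).symm)
      have hge : R ≤ centralizer (Z : Set (Q ⧸ W)) := fun v hv u hu => hRc u (hZR hu) v hv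
      haveI : Z.Normal := normalClosure_normal
      rw [le_antisymm hge hle]
      infer_instance
    have hsolR : Group.IsSolvable R := by
      refine Group.isSolvable_of_comm fun a b => Subtype.ext (hRc a a.2 b b.2)
    have hodd : Odd (Nat.card ((Q ⧸ W) ⧸ R)) := by
      have h1 : ¬ 2 ∣ (P.mapSurjective hπ : Subgroup (Q ⧸ W)).index :=
        (P.mapSurjective hπ).not_dvd_index
      rw [Sylow.coe_mapSurjective] at h1
      exact Nat.not_even_iff_odd.1 fun he => h1 he.two_dvd
    haveI := hsolR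
    haveI := S0205.result hodd
    haveI hQW : Group.IsSolvable (Q ⧸ W) :=
      Group.isSolvable_of_ker_le_range R.subtype (QuotientGroup.mk' R)
        (by rw [QuotientGroup.ker_mk', Subgroup.range_subtype])
    haveI := S0205.result hWodd
    haveI : Group.IsSolvable Q :=
      Group.isSolvable_of_ker_le_range W.subtype π
        (by rw [QuotientGroup.ker_mk', Subgroup.range_subtype])
    haveI : Nontrivial Q := ⟨x, 1, hx1⟩
    exact (Group.IsSolvable.commutator_lt_top_of_nontrivial Q).ne hperf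
  · obtain ⟨g, -, hg⟩ := SetLike.exists_of_lt (lt_top_iff_ne_top.2 hMtop)
    apply hg
    set PM : Sylow 2 M := P.subtype hPM
    obtain ⟨w, hw2, hwx, hwy⟩ := hmid g
    have hwM : w ∈ M := hCM x hx hx1 (mem_centralizer_singleton_iff.2 hwx)
    -- involutions of `M` are conjugate into `P`
    have hinto : ∀ v ∈ M, orderOf v = 2 → ∃ c ∈ M, c * v * c⁻¹ ∈ (P : Subgroup Q) := by
      intro v hv hv2
      have hp : IsPGroup 2 (zpowers (⟨v, hv⟩ : M)) :=
        IsPGroup.of_card (n := 1) (by rw [Nat.card_zpowers, Subgroup.orderOf_mk, hv2, pow_one])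
      obtain ⟨R, hR⟩ := hp.exists_le_sylow
      obtain ⟨c, hc⟩ := MulAction.exists_smul_eq M R PM
      refine ⟨c, c.2, ?_⟩
      have h1 : MulAut.conj c • (⟨v, hv⟩ : M) ∈ ((c • R : Sylow 2 M) : Subgroup M) := by
        rw [Sylow.coe_subgroup_smul]
        exact Subgroup.smul_mem_pointwise_smul _ _ _ (hR (mem_zpowers _))
      rw [hc] at h1
      exact h1
    obtain ⟨c, hc, hcw⟩ := hinto w hwM hw2
    have hy'M : g * y * g⁻¹ ∈ M := by
      have hne : c * w * c⁻¹ ≠ 1 := fun h => invol_ne_one hw2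
        (by rwa [mul_inv_eq_one, mul_eq_left] at h)
      have h1 : c * (g * y * g⁻¹) * c⁻¹ ∈ M := hCM _ hcw hne (mem_centralizer_singleton_iff.2 (by
        calc c * (g * y * g⁻¹) * c⁻¹ * (c * w * c⁻¹) = c * (g * y * g⁻¹ * w) * c⁻¹ := by group
          _ = c * (w * (g * y * g⁻¹)) * c⁻¹ := by rw [hwy]
          _ = _ := by group))
      have h2 := M.mul_mem (M.mul_mem (M.inv_mem hc) h1) hc
      simpa [mul_assoc] using h2
    obtain ⟨d, hd, hdy⟩ := hinto _ hy'M (by rw [orderOf_conj_eq, hyo])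
    obtain ⟨n, hn, hne⟩ := P.conj_eq_normalizer_conj_of_mem y (d * g)⁻¹ hy
      (show ((d * g)⁻¹)⁻¹ * y * (d * g)⁻¹ ∈ (P : Subgroup Q) by simpa [mul_assoc] using hdy)
    rw [inv_inv] at hne
    have h1 : n * (d * g) ∈ centralizer ({y} : Set Q) := by
      rw [mem_centralizer_singleton_iff]
      calc n * (d * g) * y = n * (d * g * y * (d * g)⁻¹) * (d * g) := by group
        _ = n * (n⁻¹ * y * n) * (d * g) := by rw [hne]
        _ = y * (n * (d * g)) := by group
    have h2 := hCM y hy hy1 h1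
    have h3 := M.mul_mem (M.inv_mem hd) (M.mul_mem (M.inv_mem (hNM hn)) h2)
    simpa [mul_assoc] using h3

end Cfsg.Agent.Lib.PrimeInvol7
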