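import Mathlib
import Cfsg.Agent.Lib.PrimeInvol7.Mover
import Cfsg.Agent.Lib.PrimeInvol7.TwoClasses

/-!
# No perfect normal subgroup centralises all involutions

If the involutions of `G` together with `1` form a subgroup `N` of order `p + 1`, `p ≥ 3` prime, and
are conjugate in `G`, then no non-trivial perfect normal subgroup centralises and contains `N`.
-/

set_option autoImplicit false
set_option linter.style.haveILetI false

namespace Cfsg.Agent.Lib.PrimeInvol7

open Subgroup MulAction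
open scoped commutatorElement

universe u

variable {G : Type u} [Group G]

/-- Some element of `H` permutes the non-identity elements of `N` in one cycle. -/
theorem exists_cyclic_conj [Finite G] (H N : Subgroup G) (hN : ∀ x : G, x ∈ N ↔ x * x = 1)
    {p : ℕ} [hp : Fact p.Prime] (hcard : Nat.card N = p + 1)
    (htr : ∀ x ∈ N, x ≠ 1 → ∀ y ∈ N, y ≠ 1 → ∃ h ∈ H, h * x * h⁻¹ = y) :
    ∃ h ∈ H, ∀ x ∈ N, x ≠ 1 → ∀ y ∈ N, y ≠ 1 → ∃ i : ℕ, h ^ i * x * (h ^ i)⁻¹ = y := by
  classical
  let X := {x : G // x ∈ N ∧ x ≠ 1}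
  have hmem : ∀ (g : G) (x : G), x ∈ N ∧ x ≠ 1 → g * x * g⁻¹ ∈ N ∧ g * x * g⁻¹ ≠ 1 := by
    intro g x hx
    refine ⟨(hN _).2 ?_, fun h => hx.2 (by rwa [mul_inv_eq_one, mul_eq_left] at h)⟩
    calc g * x * g⁻¹ * (g * x * g⁻¹) = g * (x * x) * g⁻¹ := by group
      _ = 1 := by rw [(hN x).1 hx.1, mul_one, mul_inv_cancel]
  letI : MulAction H X :=
    { smul := fun g x => ⟨(g : G) * x.1 * (g : G)⁻¹, hmem g x.1 x.2⟩
      one_smul := fun x => Subtype.ext (show (1 : G) * x.1 * 1⁻¹ = x.1 by group)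
      mul_smul := fun g g' x => Subtype.ext (show ((g : G) * g') * x.1 * ((g : G) * g')⁻¹ =
        (g : G) * ((g' : G) * x.1 * (g' : G)⁻¹) * (g : G)⁻¹ by group) }
  haveI : IsPretransitive H X := ⟨fun x y => by
    obtain ⟨g, hg, hgx⟩ := htr x.1 x.2.1 x.2.2 y.1 y.2.1 y.2.2
    exact ⟨⟨g, hg⟩, Subtype.ext hgx⟩⟩
  have hX : Nat.card X = p := by
    letI := Fintype.ofFinite G
    have h1 : Nat.card X = (Finset.univ.filter (fun x : G => x ∈ N) |>.erase 1).card := by
      rw [Nat.card_eq_fintype_card, Fintype.card_subtype]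
      congr 1
      ext x
      simp [and_comm]
    rw [h1, Finset.card_erase_of_mem (by simp [one_mem]), ← Fintype.card_subtype,
      ← Nat.card_eq_fintype_card]
    show Nat.card N - 1 = p
    omega
  obtain ⟨g, hg⟩ := exists_mover (H := H) (X := X) hX
  refine ⟨g, g.2, fun x hx hx1 y hy hy1 => ?_⟩
  obtain ⟨i, hi⟩ := hg ⟨x, hx, hx1⟩ ⟨y, hy, hy1⟩
  refine ⟨i, ?_⟩
  rw [← Subgroup.coe_pow]
  exact congrArg Subtype.val hi

/-- The automorphism of a subgroup `T` containing `N` given by a cycling element of its normaliser. -/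
theorem exists_cyclic_aut [Finite G] (T N : Subgroup G) (hNT : N ≤ T)
    (hN : ∀ x : G, x ∈ N ↔ x * x = 1) {p : ℕ} [hp : Fact p.Prime] (hcard : Nat.card N = p + 1)
    (htr : ∀ x ∈ N, x ≠ 1 → ∀ y ∈ N, y ≠ 1 → ∃ h ∈ normalizer (T : Set G), h * x * h⁻¹ = y) :
    (∃ a : MulAut T, ∀ x y : T, x ≠ 1 → x * x = 1 → y ≠ 1 → y * y = 1 → ∃ i : ℕ, (a ^ i) x = y) ∧
    (∃ x y : T, x ≠ y ∧ x ≠ 1 ∧ x * x = 1 ∧ y ≠ 1 ∧ y * y = 1) := by
  constructor
  · obtain ⟨g, hg, hcyc⟩ := exists_cyclic_conj (normalizer (T : Set G)) N hN hcard htr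
    refine ⟨T.normalizerMonoidHom ⟨g, hg⟩, fun x y hx1 hx hy1 hy => ?_⟩
    obtain ⟨i, hi⟩ := hcyc x ((hN x).2 (congrArg Subtype.val hx)) (fun h => hx1 (Subtype.ext h))
      y ((hN y).2 (congrArg Subtype.val hy)) (fun h => hy1 (Subtype.ext h))
    refine ⟨i, ?_⟩
    rw [← map_pow]
    exact Subtype.ext hi
  · have h2 := hp.out.two_le
    haveI : Nontrivial N := Finite.one_lt_card_iff_nontrivial.1 (by omega)
    obtain ⟨x, hx⟩ := exists_ne (1 : N)
    obtain ⟨y, hy⟩ : ∃ y : N, y ≠ 1 ∧ y ≠ x := by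
      by_contra h
      push Not at h
      classical
      letI := Fintype.ofFinite N
      have : Fintype.card N ≤ ({1, x} : Finset N).card := Finset.card_le_card fun z _ => by
        by_cases hz : z = 1
        · simp [hz]
        · simp [h z hz]
      have h3 : ({1, x} : Finset N).card ≤ 2 := Finset.card_le_two
      rw [← Nat.card_eq_fintype_card] at this
      omega
    refine ⟨⟨x, hNT x.2⟩, ⟨y, hNT y.2⟩, fun h => hy.2 (Subtype.ext (congrArg (fun t : T => (t : G)) h).symm),
      fun h => hx (Subtype.ext (congrArg (fun t : T => (t : G)) h)), Subtype.ext ((hN _).1 x.2),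
      fun h => hy.1 (Subtype.ext (congrArg (fun t : T => (t : G)) h)), Subtype.ext ((hN _).1 y.2)⟩

theorem central_false [Finite G] (L : Subgroup G) [L.Normal] (hperf : commutator ↥L = ⊤)
    (N : Subgroup G) (hN : ∀ x : G, x ∈ N ↔ x * x = 1) (hNL : N ≤ L)
    (hcent : ∀ n ∈ N, ∀ l ∈ L, n * l = l * n) {p : ℕ} [hp : Fact p.Prime]
    (hcard : Nat.card N = p + 1)
    (htrans : ∀ x ∈ N, x ≠ 1 → ∀ y ∈ N, y ≠ 1 → IsConj x y) : False := by
  classical
  haveI : Fact (Nat.Prime 2) := ⟨Nat.prime_two⟩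
  have hp2 := hp.out.two_le
  obtain ⟨S⟩ : Nonempty (Sylow 2 L) := inferInstance
  set N' : Subgroup L := N.subgroupOf L with hN'
  have hN'mem : ∀ l : L, l ∈ N' ↔ l * l = 1 := fun l => by
    rw [hN', mem_subgroupOf, hN]
    exact ⟨fun h => Subtype.ext h, fun h => congrArg Subtype.val h⟩
  have hN'c : N' ≤ center L := fun n hn => mem_center_iff.2 fun l =>
    Subtype.ext (hcent n hn l l.2).symm
  haveI hN'n : N'.Normal := ⟨fun n hn l => by
    rw [mem_center_iff.1 (hN'c hn) l, mul_inv_cancel_right]; exact hn⟩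
  have hN'p : IsPGroup 2 N' := fun n => ⟨1, Subtype.ext (by
    rw [pow_one, sq]; exact (hN'mem _).1 n.2)⟩
  have hN'S : N' ≤ (S : Subgroup L) := hN'p.le_sylow_of_normal S
  set TG := (S : Subgroup L).map L.subtype with hTG
  have hNT : N ≤ TG := fun n hn => ⟨⟨n, hNL hn⟩, hN'S hn, rfl⟩
  -- Frattini
  have htr : ∀ x ∈ N, x ≠ 1 → ∀ y ∈ N, y ≠ 1 →
      ∃ h ∈ normalizer (TG : Set G), h * x * h⁻¹ = y := by
    intro x hx hx1 y hy hy1
    obtain ⟨g, hg⟩ := isConj_iff.1 (htrans x hx hx1 y hy hy1)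
    have hg' : g ∈ normalizer (TG : Set G) ⊔ L := by
      rw [Sylow.normalizer_sup_eq_top S]; exact mem_top g
    obtain ⟨h, hh, l, hl, rfl⟩ := Subgroup.mem_sup_of_normal_right.1 hg'
    refine ⟨h, hh, ?_⟩
    rw [← hg]
    calc h * x * h⁻¹ = h * (x * l * l⁻¹) * h⁻¹ := by group
      _ = h * (l * x * l⁻¹) * h⁻¹ := by rw [hcent x hx l hl]
      _ = h * l * x * (h * l)⁻¹ := by group
  obtain ⟨⟨a, ha⟩, htwo⟩ := exists_cyclic_aut TG N hNT hN hcard htr
  have hTGp : IsPGroup 2 TG := S.isPGroup'.map L.subtype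
  -- the Sylow subgroup is not abelian
  have hnc : ∃ x y : TG, x * y ≠ y * x := by
    by_contra hab
    push Not at hab
    haveI hSc : IsMulCommutative (S : Subgroup L) := ⟨⟨fun u v => by
      have := congrArg (fun t : TG => (t : G))
        (hab ⟨_, mem_map_of_mem L.subtype u.2⟩ ⟨_, mem_map_of_mem L.subtype v.2⟩)
      exact Subtype.ext (Subtype.ext this)⟩⟩
    letI : CommGroup (S : Subgroup L) :=
      { (inferInstance : Group (S : Subgroup L)) with mul_comm := fun u v => mul_comm' u v }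
    let V := MonoidHom.transfer (MonoidHom.id (S : Subgroup L))
    obtain ⟨n, hn⟩ : ∃ n : L, n ∈ N' ∧ n ≠ 1 := by
      obtain ⟨x, -, -, hx1, hx, -, -⟩ := htwo
      have hxN : (x : G) ∈ N := (hN _).2 (congrArg Subtype.val hx)
      exact ⟨⟨x, hNL hxN⟩, hxN, fun h => hx1 (Subtype.ext (congrArg (fun t : L => (t : G)) h))⟩
    have hV : V n = ⟨n, hN'S hn.1⟩ ^ (S : Subgroup L).index := by
      have h := MonoidHom.transfer_eq_pow (MonoidHom.id (S : Subgroup L)) n fun k g₀ _ => by
        rw [mul_assoc, ← mem_center_iff.1 ((center L).pow_mem (hN'c hn.1) k) g₀, inv_mul_cancel_left]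
      rw [h]
      exact Subtype.ext (by simp)
    have hker : n ∈ V.ker := by
      have : commutator L ≤ V.ker := Abelianization.commutator_subset_ker V
      exact this (hperf ▸ mem_top n)
    rw [MonoidHom.mem_ker, hV, ← orderOf_dvd_iff_pow_eq_one] at hker
    have ho : orderOf (⟨n, hN'S hn.1⟩ : (S : Subgroup L)) = 2 := by
      rw [Subgroup.orderOf_mk]
      exact orderOf_eq_prime (by rw [sq]; exact (hN'mem n).1 hn.1) hn.2
    rw [ho] at hker
    exact S.not_dvd_index hker
  have hSuz := suz_of_cyclic hTGp hnc a htwo ha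
  -- translate the structure to `S`
  have hcen : ∀ x : TG, x ∈ center TG ↔ (x : G) ∈ N := fun x => by
    rw [hSuz.mem_center, hN]
    exact ⟨fun h => congrArg Subtype.val h, fun h => Subtype.ext h⟩
  let e : (s : L) → s ∈ (S : Subgroup L) → TG := fun s hs => ⟨s, mem_map_of_mem L.subtype hs⟩
  have hsq : ∀ s ∈ (S : Subgroup L), s * s ∈ N' := fun s hs =>
    (hcen (e s hs * e s hs)).1 (hSuz.sq_mem _)
  have hcm : ∀ s ∈ (S : Subgroup L), ∀ s' ∈ (S : Subgroup L), ⁅s, s'⁆ ∈ N' := fun s hs s' hs' =>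
    (hcen ⁅e s hs, e s' hs'⁆).1 (hSuz.comm_mem _ _)
  set π := QuotientGroup.mk' N'
  have hπ : Function.Surjective π := QuotientGroup.mk'_surjective N'
  have hπ1 : ∀ s : L, π s = 1 ↔ s ∈ N' := fun s => QuotientGroup.eq_one_iff s
  have hπe : ∀ s s' : L, π s = π s' ↔ s⁻¹ * s' ∈ N' := fun s s' => QuotientGroup.eq
  set P : Sylow 2 (L ⧸ N') := S.mapSurjective hπ
  have hP : (P : Subgroup (L ⧸ N')) = (S : Subgroup L).map π := Sylow.coe_mapSurjective hπ S
  have hPc : IsMulCommutative (P : Subgroup (L ⧸ N')) := by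
    refine ⟨⟨fun u v => Subtype.ext ?_⟩⟩
    have hu : (u : L ⧸ N') ∈ (S : Subgroup L).map π := hP.le u.2
    have hv : (v : L ⧸ N') ∈ (S : Subgroup L).map π := hP.le v.2
    obtain ⟨s, hs, hsu⟩ := hu
    obtain ⟨s', hs', hsv⟩ := hv
    show (u : L ⧸ N') * v = v * u
    rw [← hsu, ← hsv, ← commutatorElement_eq_one_iff_mul_comm, ← map_commutatorElement, hπ1]
    exact hcm s hs s' hs'
  -- elements of the normaliser lift, and preserve squares
  have hSmem : ∀ s : L, π s ∈ (P : Subgroup (L ⧸ N')) → s ∈ (S : Subgroup L) := fun s hs => by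
    rw [hP] at hs
    obtain ⟨s', hs', hss⟩ := hs
    have := (S : Subgroup L).mul_mem hs' (hN'S ((hπe s' s).1 hss))
    rwa [mul_inv_cancel_left] at this
  have hPmem : ∀ {s : L}, s ∈ (S : Subgroup L) → π s ∈ (P : Subgroup (L ⧸ N')) := fun hs => by
    rw [hP]; exact mem_map_of_mem π hs
  have hnorm : ∀ n : L, π n ∈ normalizer ((P : Subgroup (L ⧸ N')) : Set (L ⧸ N')) →
      n ∈ normalizer ((S : Subgroup L) : Set L) := fun n hn => by
    refine mem_normalizer_iff.2 fun s => ⟨fun hs => hSmem _ ?_, fun hs => hSmem _ ?_⟩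
    · rw [map_mul, map_mul, map_inv]
      exact (mem_normalizer_iff.1 hn _).1 (hPmem hs)
    · refine (mem_normalizer_iff.1 hn _).2 ?_
      rw [← map_inv, ← map_mul, ← map_mul]
      exact hPmem hs
  have hsqconj : ∀ n s : L, s ∈ (S : Subgroup L) → n * s * n⁻¹ * (n * s * n⁻¹) = s * s := fun n s hs => by
    calc n * s * n⁻¹ * (n * s * n⁻¹) = n * (s * s) * n⁻¹ := by group
      _ = s * s := by rw [mem_center_iff.1 (hN'c (hsq s hs)) n, mul_inv_cancel_right]
  have hperfQ : commutator (L ⧸ N') = ⊤ := by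
    rw [← Subgroup.map_top_of_surjective π hπ, ← hperf, _root_.commutator_def, _root_.commutator_def,
      Subgroup.map_commutator, Subgroup.map_top_of_surjective π hπ]
  rcases hSuz.dichotomy with hinj | ⟨hcard3, hsemi⟩
  · -- squaring is injective modulo the centre
    have hNC : normalizer ((P : Subgroup (L ⧸ N')) : Set (L ⧸ N')) ≤
        centralizer ((P : Subgroup (L ⧸ N')) : Set (L ⧸ N')) := by
      intro n hn u hu
      obtain ⟨n, rfl⟩ := hπ n
      rw [SetLike.mem_coe, hP] at hu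
      obtain ⟨s, hs, rfl⟩ := hu
      have hs' : n * s * n⁻¹ ∈ (S : Subgroup L) := (mem_normalizer_iff.1 (hnorm n hn) s).1 hs
      have h1 : (e s hs)⁻¹ * e _ hs' ∈ center TG :=
        hinj _ _ (Subtype.ext (congrArg (fun t : L => (t : G)) (hsqconj n s hs)).symm)
      have h2 : π s = π n * π s * (π n)⁻¹ := by
        rw [← map_inv, ← map_mul, ← map_mul, hπe]
        exact (hcen _).1 h1
      calc π s * π n = π n * π s * (π n)⁻¹ * π n := by rw [← h2]
        _ = π n * π s := by group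
    have hK := MonoidHom.ker_transferSylow_isComplement' P hNC
    haveI := hPc
    have htop : (MonoidHom.transferSylow P hNC).ker = ⊤ := by
      refine top_le_iff.1 ?_
      rw [← hperfQ, commutator_eq_closure, Subgroup.closure_le]
      rintro _ ⟨u, v, rfl⟩
      rw [SetLike.mem_coe, MonoidHom.mem_ker, map_commutatorElement,
        commutatorElement_eq_one_iff_mul_comm]
      exact mul_comm' _ _
    have hPbot : (P : Subgroup (L ⧸ N')) = ⊥ := by
      have := hK.disjoint
      rw [htop] at this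
      exact this.eq_bot_of_ge le_top
    obtain ⟨u, v, huv⟩ := hnc
    obtain ⟨s, hs, hsu⟩ := u.2
    obtain ⟨s', hs', hsv⟩ := v.2
    apply huv
    have h1 : s ∈ N' := (hπ1 s).1 ((mem_bot).1 (hPbot ▸ hPmem hs))
    apply Subtype.ext
    show (u : G) * v = v * u
    rw [← hsu, ← hsv]
    exact congrArg Subtype.val (mem_center_iff.1 (hN'c h1) s').symm
  · -- semiregular case
    have hcT : Nat.card (center TG) = p + 1 := by
      rw [← hcard]
      refine Nat.card_congr
        { toFun := fun z => ⟨((z : TG) : G), (hcen _).1 z.2⟩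
          invFun := fun n => ⟨⟨n, hNT n.2⟩, (hcen _).2 n.2⟩
          left_inv := fun z => rfl
          right_inv := fun n => rfl }
    have hPcard : Nat.card (P : Subgroup (L ⧸ N')) * (p + 1) = (p + 1) ^ 3 := by
      have h1 : Nat.card TG = Nat.card (S : Subgroup L) :=
        Subgroup.card_map_of_injective L.subtype_injective
      rw [← hcT, ← hcard3, h1, hcT, ← hcard,
        ← Nat.card_congr (Subgroup.subgroupOfEquivOfLe hNL).toEquiv]
      show _ * Nat.card N' = _
      rw [Subgroup.card_eq_card_quotient_mul_card_subgroup (N'.subgroupOf (S : Subgroup L)),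
        Nat.card_congr (Subgroup.subgroupOfEquivOfLe hN'S).toEquiv, hP]
      congr 1
      let g : (S : Subgroup L) →* (S : Subgroup L).map π := π.subgroupMap (S : Subgroup L)
      have hg : g.ker = N'.subgroupOf (S : Subgroup L) := by
        ext s
        rw [MonoidHom.mem_ker, mem_subgroupOf, ← hπ1]
        exact ⟨fun h => congrArg Subtype.val h, fun h => Subtype.ext h⟩
      rw [← hg]
      exact Nat.card_congr
        (QuotientGroup.quotientKerEquivOfSurjective g (π.subgroupMap_surjective _)).toEquiv.symm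
    have h8 : 8 ≤ Nat.card (P : Subgroup (L ⧸ N')) := by
      have h1 : Nat.card (P : Subgroup (L ⧸ N')) = (p + 1) ^ 2 :=
        Nat.eq_of_mul_eq_mul_right (by omega : 0 < p + 1) (hPcard.trans (pow_succ _ 2))
      rw [h1]
      calc 8 ≤ 3 ^ 2 := by norm_num
        _ ≤ _ := Nat.pow_le_pow_left (by omega) 2
    -- two classes
    obtain ⟨u, v, huv⟩ := hnc
    have hu : u ∉ center TG := fun h => huv ((mem_center_iff.1 h v).symm)
    have hu2 : u * u ≠ 1 := fun h => hu ((hSuz.mem_center u).2 h)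
    obtain ⟨z, hz1, hzu, hz⟩ : ∃ z : TG, z ≠ 1 ∧ z ≠ u * u ∧ z * z = 1 := by
      obtain ⟨x, y, hxy, hx1, hx, hy1, hy⟩ := htwo
      by_cases h : x = u * u
      · exact ⟨y, hy1, fun h' => hxy (h.trans h'.symm), hy⟩
      · exact ⟨x, hx1, h, hx⟩
    obtain ⟨α, hα⟩ := hSuz.trans _ _ hu2 ((hSuz.mem_center _).1 (hSuz.sq_mem u)) hz1 hz
    obtain ⟨s, hs, hsu⟩ := u.2
    obtain ⟨s', hs', hsv⟩ := (α u).2
    have hes : e s hs = u := Subtype.ext hsu
    have hes' : e s' hs' = α u := Subtype.ext hsv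
    have hord : ∀ {w : L} (hw : w ∈ (S : Subgroup L)), e w hw * e w hw ≠ 1 → orderOf (π w) = 2 := by
      intro w hw hw2
      refine orderOf_eq_prime (by rw [sq, ← map_mul, hπ1]; exact hsq w hw) fun h => hw2 ?_
      exact Subtype.ext (congrArg (fun t : L => (t : G)) ((hN'mem w).1 ((hπ1 w).1 h)))
    have hαu : α u * α u ≠ 1 := by rwa [← map_mul, hα]
    refine false_of_two_classes P hPc ?_ h8 ?_ hperfQ (hPmem hs) (hPmem hs')
      (hord hs (by rw [hes]; exact hu2)) (hord hs' (by rw [hes']; exact hαu)) ?_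
    · intro x hx
      rw [hP] at hx
      obtain ⟨w, hw, rfl⟩ := hx
      rw [← map_mul, hπ1]
      exact hsq w hw
    · intro x hx hx1 n hn hnx y hy
      obtain ⟨n, rfl⟩ := hπ n
      rw [hP] at hx hy
      obtain ⟨w, hw, rfl⟩ := hx
      obtain ⟨w', hw', rfl⟩ := hy
      have hnS := hnorm n hn
      obtain ⟨e2, r, hr, he⟩ := Nat.exists_eq_two_pow_mul_odd (orderOf_pos n).ne'
      have hv : n ^ r ∈ (S : Subgroup L) := by
        have hp' : IsPGroup 2 (zpowers (n ^ r)) := by
          refine IsPGroup.iff_card.2 ⟨e2, ?_⟩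
          rw [Nat.card_zpowers, orderOf_pow_of_dvd hr.pos.ne' ⟨2 ^ e2, by rw [he, mul_comm]⟩, he,
            Nat.mul_div_cancel _ hr.pos]
        have h1 := S.is_maximal' (S.isPGroup'.to_sup_of_normal_left' hp'
          (zpowers_le.2 (pow_mem hnS r))) le_sup_left
        exact h1.le (mem_sup_right (mem_zpowers _))
      have hodd : Odd (orderOf (n ^ 2 ^ e2)) := by
        rw [orderOf_pow_of_dvd (by positivity) ⟨r, he⟩, he, Nat.mul_div_cancel_left _ (by positivity)]
        exact hr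
      set m := n ^ 2 ^ e2 with hm
      have hmG : (m : G) ∈ normalizer (TG : Set G) := by
        refine mem_normalizer_iff.2 fun g => ⟨?_, ?_⟩
        · rintro ⟨s0, hs0, rfl⟩
          exact ⟨m * s0 * m⁻¹, (mem_normalizer_iff.1 (pow_mem hnS _) s0).1 hs0, rfl⟩
        · rintro ⟨s0, hs0, hs0g⟩
          refine ⟨m⁻¹ * s0 * m, ?_, ?_⟩
          · have := (mem_normalizer_iff.1 (inv_mem (pow_mem hnS (2 ^ e2))) s0).1 hs0
            rw [inv_inv] at this
            exact this
          · show (m : G)⁻¹ * (s0 : G) * m = g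
            rw [show ((s0 : L) : G) = (m : G) * g * (m : G)⁻¹ from hs0g]
            group
      set k := TG.normalizerMonoidHom ⟨(m : G), hmG⟩ with hk
      have hkodd : Odd (orderOf k) := by
        refine Odd.of_dvd_nat hodd ((orderOf_map_dvd _ _).trans (dvd_of_eq ?_))
        rw [Subgroup.orderOf_mk, Subgroup.orderOf_coe]
      have hcomm : ∀ j : ℕ, π (n ^ j) * π w = π w * π (n ^ j) := fun j => by
        rw [map_pow]; exact ((show Commute (π n) (π w) from hnx).pow_left j).eq
      have hfix := hsemi k hkodd (fun z hz => Subtype.ext (by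
          show (m : G) * (z : G) * (m : G)⁻¹ = z
          rw [← hcent _ ((hcen z).1 hz) _ m.2, mul_inv_cancel_right]))
        (e w hw) (fun h => hx1 ((hπ1 w).2 ((hcen _).1 h)))
        ((hcen _).2 (show (w⁻¹ * (m * w * m⁻¹) : L) ∈ N' by
          rw [← hπe, map_mul, map_mul, map_inv, hm, hcomm, mul_inv_cancel_right]))
        (e w' hw')
      have hmw : Commute (π m) (π w') := by
        have h1 : π w' = π (m * w' * m⁻¹) := (hπe _ _).2 ((hcen _).1 hfix)
        rw [map_mul, map_mul, map_inv] at h1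
        show π m * π w' = π w' * π m
        calc π m * π w' = π m * π w' * (π m)⁻¹ * π m := by group
          _ = π w' * π m := by rw [← h1]
      have hvw : Commute (π (n ^ r)) (π w') := by
        haveI := hPc
        exact congrArg Subtype.val (mul_comm'
          (⟨_, hPmem hv⟩ : (P : Subgroup (L ⧸ N'))) ⟨_, hPmem hw'⟩)
      have hco : Nat.Coprime (2 ^ e2) r :=
        Nat.Coprime.pow_left _ (Nat.coprime_two_left.2 hr)
      have hbez : n = m ^ (Nat.gcdA (2 ^ e2) r) * (n ^ r) ^ (Nat.gcdB (2 ^ e2) r) := by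
        rw [hm, ← zpow_natCast, ← zpow_natCast n r, ← zpow_mul, ← zpow_mul, ← zpow_add,
          ← Nat.gcd_eq_gcd_ab, hco.gcd_eq_one, Nat.cast_one, zpow_one]
      rw [hbez, map_mul, map_zpow, map_zpow]
      exact ((hmw.zpow_left _).mul_left (hvw.zpow_left _)).eq
    · intro hconj
      obtain ⟨c, hc⟩ := isConj_iff.1 hconj
      obtain ⟨d, hd, hdc⟩ := Transfer.Fusion.controls_of_isMulCommutative P hPc _ (hPmem hs) c
        (by rw [hc]; exact hPmem hs')
      obtain ⟨d, rfl⟩ := hπ d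
      rw [hc, ← map_inv, ← map_mul, ← map_mul, hπe] at hdc
      have hd' : d * s * d⁻¹ ∈ (S : Subgroup L) := (mem_normalizer_iff.1 (hnorm d hd) s).1 hs
      have h1 : (e _ hd')⁻¹ * e s' hs' ∈ center TG := (hcen _).2 hdc
      have h2 := hSuz.sq_eq_of_mem h1
      have h3 : e _ hd' * e _ hd' = e s hs * e s hs :=
        Subtype.ext (congrArg (fun t : L => (t : G)) (hsqconj d s hs))
      rw [h3, hes, hes', ← map_mul, hα] at h2
      exact hzu h2.symm

end Cfsg.Agent.Lib.PrimeInvol7
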