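import Mathlib
import Cfsg.Agent.Lib.Linear.Transvection

/-!
# The affine special linear groups `F² ⋊ SL(2, F)`

Their involutions are the `(v, -1)`: there are `|F|²` of them and they form one class.
-/

set_option autoImplicit false
set_option linter.style.haveILetI false

namespace Cfsg.Agent.Lib.PrimeInvol7

variable (F : Type) [Field F]

/-- The action of `SL(2, F)` on the plane. -/
def slAct : Matrix.SpecialLinearGroup (Fin 2) F →* MulAut (Multiplicative (Fin 2 → F)) where
  toFun g := AddEquiv.toMultiplicative (Matrix.SpecialLinearGroup.toLin' g).toAddEquiv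
  map_one' := by
    ext v
    simp
  map_mul' g g' := by
    ext v
    simp [Matrix.mulVec_mulVec]

/-- `F² ⋊ SL(2, F)`. -/
abbrev ASL : Type :=
  SemidirectProduct (Multiplicative (Fin 2 → F)) (Matrix.SpecialLinearGroup (Fin 2) F) (slAct F)

theorem sl_sq_one (h2 : (2 : F) ≠ 0) (g : Matrix.SpecialLinearGroup (Fin 2) F) (hg : g * g = 1) :
    g = 1 ∨ g = -1 := by
  have hinv : g = g⁻¹ := eq_inv_of_mul_eq_one_left hg
  have he : (g : Matrix (Fin 2) (Fin 2) F) = Matrix.adjugate (g : Matrix (Fin 2) (Fin 2) F) := by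
    conv_lhs => rw [hinv]
    rfl
  have hd := g.det_coe
  rw [Matrix.det_fin_two] at hd
  rw [Matrix.adjugate_fin_two] at he
  have e00 := congrFun (congrFun he 0) 0
  have e01 := congrFun (congrFun he 0) 1
  have e10 := congrFun (congrFun he 1) 0
  simp at e00 e01 e10
  have hb : g 0 1 = 0 :=
    (mul_eq_zero.1 (show (2 : F) * g 0 1 = 0 by linear_combination e01)).resolve_left h2
  have hc : g 1 0 = 0 :=
    (mul_eq_zero.1 (show (2 : F) * g 1 0 = 0 by linear_combination e10)).resolve_left h2
  rw [← e00, hb, hc] at hd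
  have ha : g 0 0 = 1 ∨ g 0 0 = -1 := mul_self_eq_one_iff.1 (by linear_combination hd)
  rcases ha with ha | ha
  · left
    ext i j
    fin_cases i <;> fin_cases j <;> simp [ha, hb, hc, ← e00]
  · right
    ext i j
    fin_cases i <;> fin_cases j <;> simp [ha, hb, hc, ← e00]

/-- Non-solvable groups with `p ^ (2 j)` involutions in one class. -/
theorem exists_nonsolvable (p j : ℕ) [hp : Fact p.Prime] (hp2 : p ≠ 2) (hj : j ≠ 0)
    (h4 : 4 ≤ p ^ j) :
    ∃ (G : Type) (_ : Group G) (_ : Finite G), Nat.card {x : G // orderOf x = 2} = p ^ (2 * j) ∧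
      (∀ x y : G, orderOf x = 2 → orderOf y = 2 → ∃ g : G, g * x * g⁻¹ = y) ∧
      ¬ Group.IsSolvable G := by
  classical
  let F := GaloisField p j
  have hcardF : Nat.card F = p ^ j := GaloisField.card p j hj
  haveI : Finite F := Nat.finite_of_card_ne_zero (by rw [hcardF]; omega)
  have h2 : (2 : F) ≠ 0 := by
    intro h
    have h' : ((2 : ℕ) : F) = 0 := by exact_mod_cast h
    rw [CharP.cast_eq_zero_iff F p] at h'
    exact hp2 ((Nat.prime_dvd_prime_iff_eq hp.out Nat.prime_two).1 h')
  haveI : Finite (ASL F) := Finite.of_equiv _ SemidirectProduct.equivProd.symm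
  have hm1 : ∀ v : Fin 2 → F, (slAct F (-1)) (Multiplicative.ofAdd v) = Multiplicative.ofAdd (-v) := by
    intro v
    show Multiplicative.ofAdd
      (((-1 : Matrix.SpecialLinearGroup (Fin 2) F) : Matrix (Fin 2) (Fin 2) F).mulVec v) = _
    rw [Matrix.SpecialLinearGroup.coe_neg, Matrix.SpecialLinearGroup.coe_one, Matrix.neg_mulVec,
      Matrix.one_mulVec]
  let inv : (Fin 2 → F) → ASL F := fun v => ⟨Multiplicative.ofAdd v, -1⟩
  have hne : (-1 : Matrix.SpecialLinearGroup (Fin 2) F) ≠ 1 := fun h => h2 (by
    have h' := congrArg (fun m : Matrix.SpecialLinearGroup (Fin 2) F => (m : Matrix (Fin 2) (Fin 2) F) 0 0) h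
    simp at h'
    linear_combination -h')
  have hinv : ∀ x : ASL F, orderOf x = 2 ↔ ∃ v, inv v = x := by
    intro x
    constructor
    · intro hx
      have hx2 : x * x = 1 := by
        have h := pow_orderOf_eq_one x
        rwa [hx, pow_two] at h
      rcases sl_sq_one F h2 x.right (congrArg SemidirectProduct.right hx2) with h | h
      · exfalso
        have h1 := congrArg SemidirectProduct.left hx2
        rw [SemidirectProduct.mul_left, h, map_one, SemidirectProduct.one_left] at h1
        have hv : x.left.toAdd = 0 := by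
          have h3 : x.left.toAdd + x.left.toAdd = 0 := congrArg Multiplicative.toAdd h1
          rw [← two_smul F] at h3
          exact (smul_eq_zero.1 h3).resolve_left h2
        have : x = 1 := SemidirectProduct.ext (toAdd_eq_zero.1 hv) h
        rw [this, orderOf_one] at hx
        omega
      · exact ⟨x.left.toAdd, SemidirectProduct.ext rfl h.symm⟩
    · rintro ⟨v, rfl⟩
      refine orderOf_eq_prime ?_ fun h => hne (congrArg SemidirectProduct.right h)
      rw [pow_two]
      refine SemidirectProduct.ext ?_ ?_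
      · show Multiplicative.ofAdd v * slAct F (-1) (Multiplicative.ofAdd v) = 1
        rw [hm1, ← ofAdd_add, add_neg_cancel, ofAdd_zero]
      · show (-1 : Matrix.SpecialLinearGroup (Fin 2) F) * -1 = 1
        simp
  refine ⟨ASL F, inferInstance, inferInstance, ?_, ?_, ?_⟩
  · have he : Function.Bijective (fun v => (⟨inv v, (hinv _).2 ⟨v, rfl⟩⟩ : {x : ASL F // orderOf x = 2})) :=
      ⟨fun v w h => Multiplicative.ofAdd.injective
        (congrArg (fun x : {x : ASL F // orderOf x = 2} => x.1.left) h),
        fun x => let ⟨v, hv⟩ := (hinv _).1 x.2; ⟨v, Subtype.ext hv⟩⟩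
    rw [← Nat.card_eq_of_bijective _ he, Nat.card_fun, Nat.card_fin, hcardF, ← pow_mul, mul_comm]
  · intro x y hx hy
    obtain ⟨v, rfl⟩ := (hinv x).1 hx
    obtain ⟨u, rfl⟩ := (hinv y).1 hy
    refine ⟨⟨Multiplicative.ofAdd ((2 : F)⁻¹ • (u - v)), 1⟩, ?_⟩
    rw [mul_inv_eq_iff_eq_mul]
    refine SemidirectProduct.ext ?_ ?_
    · show Multiplicative.ofAdd _ * slAct F 1 (Multiplicative.ofAdd v) =
        Multiplicative.ofAdd u * slAct F (-1) (Multiplicative.ofAdd _)
      rw [map_one, hm1, MulAut.one_apply, ← ofAdd_add, ← ofAdd_add]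
      congr 1
      have : u - v = (2 : F) • ((2 : F)⁻¹ • (u - v)) := by rw [smul_smul, mul_inv_cancel₀ h2, one_smul]
      rw [two_smul] at this
      rw [sub_eq_iff_eq_add] at this
      generalize (2 : F)⁻¹ • (u - v) = w at this ⊢
      rw [this]
      abel
    · show (1 : Matrix.SpecialLinearGroup (Fin 2) F) * -1 = -1 * 1
      rw [one_mul, mul_one]
  · intro hs
    haveI : Group.IsSolvable (Matrix.SpecialLinearGroup (Fin 2) F) :=
      Group.isSolvable_of_surjective (f := (SemidirectProduct.rightHom : ASL F →* _))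
        SemidirectProduct.rightHom_surjective
    haveI : Nontrivial (Matrix.SpecialLinearGroup (Fin 2) F) := ⟨⟨-1, 1, hne⟩⟩
    have hperf := Linear.commutator_SL_eq_top (F := F) (n := 2) le_rfl fun _ => hcardF ▸ h4
    obtain ⟨n, hn⟩ := (inferInstance : Group.IsSolvable (Matrix.SpecialLinearGroup (Fin 2) F))
    have : ∀ i, derivedSeries (Matrix.SpecialLinearGroup (Fin 2) F) i = ⊤ := fun i => by
      induction i with
      | zero => rfl
      | succ i ih => rw [derivedSeries_succ, ih, ← _root_.commutator_def, hperf]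
    rw [this n] at hn
    exact top_ne_bot hn

end Cfsg.Agent.Lib.PrimeInvol7
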