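import Mathlib

/-!
# Linear algebra over the field of two elements for the case of seven involutions
-/

set_option autoImplicit false
set_option linter.unusedSectionVars false

namespace Cfsg.Agent.Lib.PrimeInvol7

open Module LinearMap

variable {V : Type*} [AddCommGroup V] [Module (ZMod 2) V]

theorem add_self_zero (x : V) : x + x = 0 := by
  rw [← two_smul (ZMod 2) x, show (2 : ZMod 2) = 0 from rfl, zero_smul]

/-- An element of order 3 normalising a fixed-point-free element of order 7 fixes a vector. -/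
theorem fixed_ne_zero [Nontrivial V] (x y : Module.End (ZMod 2) V) (hx : x ^ 3 = 1) (hy7 : y ^ 7 = 1)
    (hy : ∀ v, y v = v → v = 0) (hxy : x * y = y ^ 2 * x) : ∃ v, v ≠ 0 ∧ x v = v := by
  by_contra h
  push Not at h
  have hfix : ∀ v, x v = v → v = 0 := fun v hv => by
    by_contra h0
    exact h v h0 hv
  have hpow : ∀ m : ℕ, x * y ^ m = y ^ (2 * m) * x := by
    intro m
    induction m with
    | zero => simp
    | succ m ih => rw [pow_succ, ← mul_assoc, ih, mul_assoc, hxy, ← mul_assoc, ← pow_add, mul_add]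
  have hy7' : ∀ k : ℕ, y ^ (7 * k) = 1 := fun k => by rw [pow_mul, hy7, one_pow]
  have hg : ∀ (k : ℕ) (v : V), v + (y ^ k) (x v) + (y ^ (3 * k)) (x (x v)) = 0 := by
    intro k v
    set g := y ^ k * x with hgd
    have hgg : g * g = y ^ (3 * k) * (x * x) := by
      rw [hgd, mul_assoc, ← mul_assoc x, hpow, ← mul_assoc, ← mul_assoc, ← pow_add, mul_assoc]
      congr 2
      ring
    have hggg : g * (g * g) = 1 := by
      rw [hgg, hgd, mul_assoc, ← mul_assoc x, hpow, mul_assoc (y ^ _) x, ← mul_assoc (y ^ k),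
        ← pow_add,
        show k + 2 * (3 * k) = 7 * k by ring, hy7', one_mul, ← pow_two, ← pow_succ', hx]
    have hgfix : ∀ u, g u = u → u = 0 := by
      intro u hu
      have hu' : (y ^ (6 * k)) ((y ^ k) u) = u := by
        rw [← Module.End.mul_apply, ← pow_add, show 6 * k + k = 7 * k by ring, hy7']
        rfl
      have hcomm : g * y ^ (6 * k) = y ^ (6 * k) * x := by
        rw [hgd, mul_assoc, hpow, ← mul_assoc, ← pow_add,
          show k + 2 * (6 * k) = 7 * k + 6 * k by ring, pow_add, hy7', one_mul]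
      have h1 : (y ^ (6 * k)) (x ((y ^ k) u)) = u := by
        rw [← Module.End.mul_apply, ← hcomm, Module.End.mul_apply, hu', hu]
      have h2 : x ((y ^ k) u) = (y ^ k) u := by
        have := congrArg (y ^ k : Module.End (ZMod 2) V) h1
        rwa [← Module.End.mul_apply, ← pow_add, show k + 6 * k = 7 * k by ring, hy7'] at this
      rw [← hu', hfix _ h2, map_zero]
    have := hgfix (v + g v + g (g v)) (by
      rw [map_add, map_add, ← Module.End.mul_apply g g (g v), ← Module.End.mul_apply (g * g) g v,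
        show g * g * g = 1 by rw [mul_assoc, hggg], Module.End.one_apply]
      abel)
    rwa [← Module.End.mul_apply g g v, hgg, Module.End.mul_apply, Module.End.mul_apply] at this
  have hsum : ∀ a : Module.End (ZMod 2) V, a ^ 7 = 1 → (∀ v, a v = v → v = 0) →
      ∀ v, ∑ i ∈ Finset.range 7, (a ^ i) v = 0 := by
    intro a ha hfa v
    refine hfa _ ?_
    have h1 := mul_geom_sum a 7
    rw [ha, sub_self] at h1
    have h2 := DFunLike.congr_fun h1 v
    rw [Module.End.mul_apply, LinearMap.sub_apply, Module.End.one_apply, LinearMap.zero_apply,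
      sub_eq_zero, LinearMap.sum_apply] at h2
    exact h2
  obtain ⟨v, hv⟩ := exists_ne (0 : V)
  apply hv
  have h7 : ∑ k ∈ Finset.range 7, (v + (y ^ k) (x v) + (y ^ (3 * k)) (x (x v))) = 0 :=
    Finset.sum_eq_zero fun k _ => hg k v
  rw [Finset.sum_add_distrib, Finset.sum_add_distrib, hsum y hy7 hy, add_zero] at h7
  simp only [pow_mul] at h7
  rw [hsum (y ^ 3) (by rw [← pow_mul, show 3 * 7 = 7 * 3 by rfl, hy7']) ?_, add_zero,
    Finset.sum_const, Finset.card_range] at h7
  · rwa [succ_nsmul, show 6 • v = 0 by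
      rw [show 6 = 3 * 2 by rfl, mul_nsmul', two_nsmul, add_self_zero, nsmul_zero], zero_add] at h7
  · intro u hu
    refine hy u ?_
    have h15 : y ^ 15 = y := by rw [show 15 = 7 * 2 + 1 by rfl, pow_succ, hy7', one_mul]
    have h5 : ∀ n : ℕ, ((y ^ 3) ^ n) u = u := by
      intro n
      induction n with
      | zero => rfl
      | succ n ih => rw [pow_succ, Module.End.mul_apply, hu, ih]
    have := h5 5
    rwa [← pow_mul, h15] at this

variable [Finite V]

theorem finrank_map_add (f : V →ₗ[ZMod 2] V) (A B : Submodule (ZMod 2) V) (h : A.map f = B) :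
    finrank (ZMod 2) B + finrank (ZMod 2) (A ⊓ LinearMap.ker f : Submodule (ZMod 2) V) =
      finrank (ZMod 2) A := by
  have : Module.Finite (ZMod 2) V := Module.Finite.of_finite
  have h1 := (f.domRestrict A).finrank_range_add_finrank_ker
  rw [LinearMap.range_domRestrict, h, LinearMap.ker_domRestrict,
    ← Submodule.finrank_map_subtype_eq, Submodule.map_comap_subtype] at h1
  exact h1

/-- An element inverting `x` that has a square root is trivial on the fixed plane of `x`. -/
theorem trivial_on_fixed (hV : finrank (ZMod 2) V = 6) (x t f : Module.End (ZMod 2) V)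
    (hx : x ^ 3 = 1) (hF : finrank (ZMod 2) (LinearMap.ker (x + 1)) = 2) (ht : t * t = 1)
    (htx : t * x = x ^ 2 * t) (hf : f * f = t) : ∀ v, x v = v → t v = v := by
  have : Module.Finite (ZMod 2) V := Module.Finite.of_finite
  have hk1 : ∀ (a : Module.End (ZMod 2) V) (v : V), v ∈ LinearMap.ker (a + 1) ↔ a v = v := by
    intro a v
    rw [LinearMap.mem_ker, LinearMap.add_apply, Module.End.one_apply]
    exact ⟨fun h => by rw [← add_zero (a v), ← add_self_zero v, ← add_assoc, h, zero_add],
      fun h => by rw [h, add_self_zero]⟩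
  have hx3 : ∀ v, x (x (x v)) = v := fun v => by
    have := DFunLike.congr_fun hx v
    rwa [pow_succ, pow_two, Module.End.mul_apply, Module.End.mul_apply, Module.End.one_apply] at this
  have htt : ∀ v, t (t v) = v := fun v => DFunLike.congr_fun ht v
  have htx' : ∀ v, t (x v) = x (x (t v)) := fun v => by
    have := DFunLike.congr_fun htx v
    rwa [pow_two] at this
  have htx2 : ∀ v, t (x (x v)) = x (t v) := fun v => by rw [htx', htx', hx3]
  set ψ : Module.End (ZMod 2) V := 1 + x + x * x with hψ
  have hψa : ∀ v, ψ v = v + x v + x (x v) := fun v => rfl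
  set F := LinearMap.ker (x + 1) with hFd
  set K := LinearMap.ker (t + 1) with hKd
  set W := LinearMap.ker ψ with hWd
  have hψF : ∀ v, ψ v ∈ F := fun v => by
    rw [hk1, hψa, map_add, map_add, hx3]
    abel
  have hψfix : ∀ v ∈ F, ψ v = v := fun v hv => by
    rw [hψa, (hk1 x v).1 hv, (hk1 x v).1 hv, add_self_zero, zero_add]
  have hrange : (⊤ : Submodule (ZMod 2) V).map ψ = F := le_antisymm
    (by rintro _ ⟨v, -, rfl⟩; exact hψF v) (fun v hv => ⟨v, trivial, hψfix v hv⟩)
  have hW : finrank (ZMod 2) W = 4 := by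
    have := finrank_map_add ψ ⊤ F hrange
    rw [top_inf_eq, finrank_top, hF, hV] at this
    rw [hWd]
    omega
  have htψ : ∀ v, t v = v → t (ψ v) = ψ v := fun v hv => by
    rw [hψa, map_add, map_add, htx', htx2, hv]
    abel
  have hK : finrank (ZMod 2) (K ⊓ F : Submodule (ZMod 2) V) +
      finrank (ZMod 2) (K ⊓ W : Submodule (ZMod 2) V) = finrank (ZMod 2) K := by
    refine finrank_map_add ψ K (K ⊓ F) (le_antisymm ?_ ?_)
    · rintro _ ⟨v, hv, rfl⟩
      exact ⟨(hk1 t _).2 (htψ v ((hk1 t v).1 hv)), hψF v⟩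
    · rintro v ⟨hvK, hvF⟩
      exact ⟨v, hvK, hψfix v hvF⟩
  have hKW : finrank (ZMod 2) (K ⊓ W : Submodule (ZMod 2) V) = 2 := by
    have h := finrank_map_add (t + 1) W (K ⊓ W) (le_antisymm ?_ ?_)
    · rw [← hKd, inf_comm W, hW] at h
      omega
    · rintro _ ⟨v, hv, rfl⟩
      rw [SetLike.mem_coe, hWd, LinearMap.mem_ker] at hv
      refine ⟨(hk1 t _).2 ?_, ?_⟩
      · rw [LinearMap.add_apply, Module.End.one_apply, map_add, htt, add_comm]
      · rw [SetLike.mem_coe, hWd, LinearMap.mem_ker]
        show ψ (t v + v) = 0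
        rw [map_add, hv, add_zero]
        have h1 : ψ (t v) = t (ψ v) := by
          rw [hψa, hψa, map_add, map_add, htx', htx2]
          abel
        rw [h1, hv, map_zero]
    · rintro a ⟨haK, haW⟩
      rw [SetLike.mem_coe, hWd, LinearMap.mem_ker] at haW
      have hta := (hk1 t a).1 haK
      refine ⟨x a, ?_, ?_⟩
      · rw [SetLike.mem_coe, hWd, LinearMap.mem_ker, hψa, hx3]
        rw [hψa] at haW
        rw [← haW]
        abel
      · rw [LinearMap.add_apply, Module.End.one_apply, htx', hta]
        rw [hψa, add_assoc, add_eq_zero_iff_eq_neg] at haW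
        rw [add_comm]
        conv_rhs => rw [haW]
        exact (neg_eq_of_add_eq_zero_left (add_self_zero _)).symm
  intro v0 hv0
  by_contra hne
  set r := finrank (ZMod 2) (F.map (t + 1))
  have hr := finrank_map_add (t + 1) F _ rfl
  rw [inf_comm F, ← hKd, hF] at hr
  have hle : F.map (t + 1) ≤ K ⊓ F := by
    rintro _ ⟨v, hv, rfl⟩
    refine ⟨(hk1 t _).2 ?_, (hk1 x _).2 ?_⟩
    · rw [LinearMap.add_apply, Module.End.one_apply, map_add, htt, add_comm]
    · rw [LinearMap.add_apply, Module.End.one_apply, map_add]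
      have hxv := (hk1 x v).1 hv
      congr 1
      calc x (t v) = t (x (x v)) := (htx2 v).symm
        _ = t v := by rw [hxv, hxv]
  have hr1 : 1 ≤ r := by
    refine Module.finrank_pos_iff_exists_ne_zero.2
      ⟨⟨(t + 1) v0, Submodule.mem_map_of_mem ((hk1 x v0).2 hv0)⟩, fun h0 => hne ?_⟩
    exact (hk1 t v0).1 (congrArg Subtype.val h0)
  have hmono : r ≤ finrank (ZMod 2) (K ⊓ F : Submodule (ZMod 2) V) := Submodule.finrank_mono hle
  have hK3 : finrank (ZMod 2) K = 3 := by omega
  -- the square root
  set s : Module.End (ZMod 2) V := f + 1 with hs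
  have hss : ∀ v, s (s v) = (t + 1) v := fun v => by
    rw [← hf]
    show f (f v + v) + (f v + v) = f (f v) + v
    rw [map_add, add_assoc (f (f v)), ← add_assoc (f v), add_self_zero, zero_add]
  have hker : LinearMap.ker s ≤ K := fun v hv => by
    rw [hKd, LinearMap.mem_ker, ← hss, LinearMap.mem_ker.1 hv, map_zero]
  have hrge : (⊤ : Submodule (ZMod 2) V).map (t + 1) = K := by
    refine Submodule.eq_of_le_of_finrank_eq ?_ ?_
    · rintro _ ⟨v, -, rfl⟩
      refine (hk1 t _).2 ?_
      rw [LinearMap.add_apply, Module.End.one_apply, map_add, htt, add_comm]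
    · have := finrank_map_add (t + 1) ⊤ _ rfl
      rw [top_inf_eq, finrank_top, hV, ← hKd] at this
      omega
  have himg : K.map s = LinearMap.ker s := by
    refine le_antisymm ?_ fun k hk => ?_
    · rintro _ ⟨v, hv, rfl⟩
      rw [LinearMap.mem_ker, hss]
      exact hv
    · obtain ⟨w, -, hw⟩ := hrge.ge (hker hk)
      rw [← hss] at hw
      refine ⟨s w, ?_, hw⟩
      rw [SetLike.mem_coe, hKd, LinearMap.mem_ker, ← hss, hw, LinearMap.mem_ker.1 hk]
  have h2 := finrank_map_add s K _ himg
  rw [inf_eq_right.2 hker, hK3] at h2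
  omega

end Cfsg.Agent.Lib.PrimeInvol7
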