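import Mathlib
import Cfsg.Agent.Lib.Coprime.Conjugacy

/-!
# The group induced on the subgroup of all involutions, and lifts normalising a complement

`Setup G W`: the involutions of `G` with `1` are parametrised by the `ZMod 2`-space `W`.
`Frame S`: a subgroup `G1` covering `GL(W)` together with its normal 2-subgroup `T` which contains
every 2-element of `G1` acting trivially on `W`.
-/

set_option autoImplicit false
set_option linter.style.haveILetI false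
set_option linter.unusedSectionVars false

namespace Cfsg.Agent.Lib.PrimeInvol7

open Subgroup
open scoped Pointwise

universe u v

/-- The involutions of `G`, with `1`, as a vector space. -/
structure Setup (G : Type u) [Group G] (W : Type v) [AddCommGroup W] where
  /-- the parametrisation -/
  ι : W → G
  map_add : ∀ a b, ι (a + b) = ι a * ι b
  inj : Function.Injective ι
  sq_eq_one : ∀ x : G, x * x = 1 ↔ ∃ w, ι w = x

namespace Setup

variable {G : Type u} [Group G] {W : Type v} [AddCommGroup W] [Module (ZMod 2) W] (S : Setup G W)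

/-- The centraliser of all involutions. -/
def C : Subgroup G := centralizer (Set.range S.ι)

theorem mem_C {g : G} : g ∈ S.C ↔ ∀ w, S.ι w * g = g * S.ι w := by
  simp [C, mem_centralizer_iff]

theorem map_zero : S.ι 0 = 1 := by
  have h := S.map_add 0 0
  rwa [add_zero, left_eq_mul] at h

theorem eq_one_iff {w : W} : S.ι w = 1 ↔ w = 0 :=
  ⟨fun h => S.inj (h.trans S.map_zero.symm), fun h => h ▸ S.map_zero⟩

theorem ι_sq (w : W) : S.ι w * S.ι w = 1 := (S.sq_eq_one _).2 ⟨w, rfl⟩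

theorem ι_mem_C (w : W) : S.ι w ∈ S.C :=
  S.mem_C.2 fun w' => by rw [← S.map_add, ← S.map_add, add_comm]

theorem mem_C_of_sq {x : G} (h : x * x = 1) : x ∈ S.C := by
  obtain ⟨w, rfl⟩ := (S.sq_eq_one x).1 h
  exact S.ι_mem_C w

/-- `g` induces `e` on the involutions. -/
def Acts (g : G) (e : W ≃ₗ[ZMod 2] W) : Prop := ∀ w, g * S.ι w * g⁻¹ = S.ι (e w)

variable {S}

theorem Acts.one : S.Acts 1 1 := fun w => by
  rw [one_mul, inv_one, mul_one]
  rfl

theorem Acts.mul {g g' : G} {e e' : W ≃ₗ[ZMod 2] W} (h : S.Acts g e) (h' : S.Acts g' e') :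
    S.Acts (g * g') (e * e') := fun w => by
  show _ = S.ι (e (e' w))
  rw [← h, ← h']
  group

theorem Acts.inv {g : G} {e : W ≃ₗ[ZMod 2] W} (h : S.Acts g e) : S.Acts g⁻¹ e⁻¹ := fun w => by
  have h1 := h ((e⁻¹ : W ≃ₗ[ZMod 2] W) w)
  rw [show e ((e⁻¹ : W ≃ₗ[ZMod 2] W) w) = w from e.apply_symm_apply w] at h1
  rw [← h1]
  group

theorem Acts.pow {g : G} {e : W ≃ₗ[ZMod 2] W} (h : S.Acts g e) :
    ∀ n : ℕ, S.Acts (g ^ n) (e ^ n)
  | 0 => by simpa using Acts.one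
  | n + 1 => by rw [pow_succ, pow_succ]; exact (Acts.pow h n).mul h

theorem Acts.unique {g : G} {e e' : W ≃ₗ[ZMod 2] W} (h : S.Acts g e) (h' : S.Acts g e') : e = e' :=
  LinearEquiv.ext fun w => S.inj ((h w).symm.trans (h' w))

theorem acts_one_of_mem {g : G} (h : g ∈ S.C) : S.Acts g 1 := fun w => by
  show g * S.ι w * g⁻¹ = S.ι w
  rw [← S.mem_C.1 h w, mul_inv_cancel_right]

theorem Acts.mem_C_iff {g : G} {e : W ≃ₗ[ZMod 2] W} (h : S.Acts g e) : g ∈ S.C ↔ e = 1 := by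
  refine ⟨fun hg => h.unique (acts_one_of_mem hg), fun he => S.mem_C.2 fun w => ?_⟩
  have h1 := h w
  rw [he] at h1
  have h2 : g * S.ι w * g⁻¹ = S.ι w := h1
  calc S.ι w * g = g * S.ι w * g⁻¹ * g := by rw [h2]
    _ = g * S.ι w := by group

theorem Acts.mul_left {g c : G} {e : W ≃ₗ[ZMod 2] W} (h : S.Acts g e) (hc : c ∈ S.C) :
    S.Acts (c * g) e := by
  have := (acts_one_of_mem hc).mul h
  rwa [one_mul] at this

theorem Acts.commute_iff {g : G} {e : W ≃ₗ[ZMod 2] W} (h : S.Acts g e) (w : W) :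
    g * S.ι w = S.ι w * g ↔ e w = w := by
  refine ⟨fun hg => S.inj ?_, fun he => ?_⟩
  · rw [← h w, hg, mul_inv_cancel_right]
  · have h1 := h w
    rw [he] at h1
    calc g * S.ι w = g * S.ι w * g⁻¹ * g := by group
      _ = S.ι w * g := by rw [h1]

end Setup

/-- A covering subgroup with a normal 2-subgroup. -/
structure Frame {G : Type u} [Group G] {W : Type v} [AddCommGroup W] [Module (ZMod 2) W]
    (S : Setup G W) where
  /-- the covering subgroup -/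
  G1 : Subgroup G
  /-- its normal 2-subgroup -/
  T : Subgroup G
  le : T ≤ G1
  norm : G1 ≤ normalizer (T : Set G)
  pgroup : IsPGroup 2 T
  le_C : T ≤ S.C
  ι_mem : ∀ w, S.ι w ∈ T
  mem : ∀ c ∈ G1, c ∈ S.C → ∀ i : ℕ, c ^ 2 ^ i = 1 → c ∈ T
  cov : ∀ e : W ≃ₗ[ZMod 2] W, ∃ g ∈ G1, S.Acts g e

namespace Frame

variable {G : Type u} [Group G] [Finite G] {W : Type v} [AddCommGroup W] [Module (ZMod 2) W]
  {S : Setup G W} (F : Frame S)

theorem conj_mem {g x : G} (hg : g ∈ F.G1) (hx : x ∈ F.T) : g * x * g⁻¹ ∈ F.T :=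
  (mem_normalizer_iff.1 (F.norm hg) x).1 hx

theorem commute_of_normalizes {R : Subgroup G} (hR : R ≤ F.G1) (hodd : Odd (Nat.card R)) {x : G}
    (hx : x ∈ F.T) (hn : x ∈ normalizer (R : Set G)) : ∀ ρ ∈ R, x * ρ = ρ * x := by
  intro ρ hρ
  set c := x * ρ * x⁻¹ * ρ⁻¹ with hc
  have hcR : c ∈ R := mul_mem ((mem_normalizer_iff.1 hn ρ).1 hρ) (inv_mem hρ)
  have hcT : c ∈ F.T := by
    rw [show c = x * (ρ * x⁻¹ * ρ⁻¹) by rw [hc]; group]
    exact mul_mem hx (F.conj_mem (hR hρ) (inv_mem hx))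
  obtain ⟨i, hi⟩ := IsPGroup.iff_orderOf.1 F.pgroup ⟨c, hcT⟩
  have h1 : orderOf c ∣ Nat.card R := R.orderOf_dvd_natCard hcR
  rw [Subgroup.orderOf_mk] at hi
  have h2 : Odd (orderOf c) := hodd.of_dvd_nat h1
  rw [hi] at h2
  rcases Nat.eq_zero_or_pos i with rfl | hi0
  · rw [pow_zero, orderOf_eq_one_iff] at hi
    calc x * ρ = c * (ρ * x) := by rw [hc]; group
      _ = ρ * x := by rw [hi, one_mul]
  · exact absurd ((Nat.even_pow).2 ⟨even_two, hi0.ne'⟩) (Nat.not_even_iff_odd.2 h2)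

theorem exists_lift {s τ : W ≃ₗ[ZMod 2] W} {r : ℕ} (hr : Odd r) (hs : s ^ r = 1)
    (hτ : τ * τ = 1) {j : ℕ} (hsτ : τ * s * τ = s ^ j) :
    ∃ (R : Subgroup G) (σ t : G), R ≤ F.G1 ∧ Odd (Nat.card R) ∧ σ ∈ R ∧ S.Acts σ s ∧
      t ∈ F.G1 ∧ S.Acts t τ ∧ t ∈ normalizer (R : Set G) ∧ t * t ∈ F.T ∧
      (∀ ρ ∈ R, ∃ i : ℕ, S.Acts ρ (s ^ i)) ∧
      ∀ g ∈ F.G1, ∀ i : ℕ, S.Acts g (s ^ i) → ∃ u ∈ F.T, ∃ h ∈ R, g = u * h := by
  classical
  haveI : Fact (Nat.Prime 2) := ⟨Nat.prime_two⟩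
  let X : Subgroup G :=
    { carrier := {g | g ∈ F.G1 ∧ ∃ i : ℕ, S.Acts g (s ^ i)}
      one_mem' := ⟨one_mem _, 0, by simpa using Setup.Acts.one⟩
      mul_mem' := by
        rintro a b ⟨ha, i, hi⟩ ⟨hb, l, hl⟩
        exact ⟨mul_mem ha hb, i + l, by rw [pow_add]; exact hi.mul hl⟩
      inv_mem' := by
        rintro a ⟨ha, i, hi⟩
        refine ⟨inv_mem ha, i * (r - 1), ?_⟩
        have h1 : (s ^ i)⁻¹ = s ^ (i * (r - 1)) := by
          rw [inv_eq_iff_mul_eq_one, ← pow_add]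
          have : i + i * (r - 1) = r * i := by
            obtain ⟨d, hd⟩ : ∃ d, r = d + 1 := ⟨r - 1, by have := hr.pos; omega⟩
            rw [hd, Nat.add_sub_cancel]
            ring
          rw [this, pow_mul, hs, one_pow]
        exact h1 ▸ hi.inv }
  have hX : ∀ g, g ∈ X ↔ g ∈ F.G1 ∧ ∃ i : ℕ, S.Acts g (s ^ i) := fun g => Iff.rfl
  have hTX : F.T ≤ X := fun x hx =>
    ⟨F.le hx, 0, by simpa using Setup.acts_one_of_mem (F.le_C hx)⟩
  set T' := F.T.subgroupOf X with hT'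
  haveI hT'n : T'.Normal := ⟨fun a ha g => by
    rw [hT', mem_subgroupOf] at ha ⊢
    exact F.conj_mem g.2.1 ha⟩
  have hT'p : IsPGroup 2 T' := F.pgroup.of_equiv (subgroupOfEquivOfLe hTX).symm
  obtain ⟨P⟩ : Nonempty (Sylow 2 X) := inferInstance
  have hPT : (P : Subgroup X) ≤ T' := by
    intro g hg
    obtain ⟨hgG, i, hi⟩ := g.2
    obtain ⟨e, he⟩ := P.isPGroup' ⟨g, hg⟩
    have he' : (g : G) ^ 2 ^ e = 1 :=
      congrArg (fun a : (P : Subgroup X) => ((a : X) : G)) he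
    refine F.mem _ hgG ?_ e he'
    show (g : G) ∈ S.C
    rw [hi.mem_C_iff, ← orderOf_eq_one_iff]
    have h1 : orderOf (s ^ i) ∣ 2 ^ e := by
      rw [orderOf_dvd_iff_pow_eq_one]
      exact (hi.pow _).unique (he' ▸ Setup.Acts.one)
    have h2 : orderOf (s ^ i) ∣ r := (orderOf_pow_dvd i).trans (orderOf_dvd_of_pow_eq_one hs)
    exact Nat.eq_one_of_dvd_coprimes (Nat.Coprime.pow_left e (Nat.coprime_two_left.2 hr)) h1 h2
  have hPeq : (P : Subgroup X) = T' := (P.is_maximal' hT'p hPT).symm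
  have hidx : Odd T'.index := by
    rw [← hPeq, ← Nat.not_even_iff_odd, even_iff_two_dvd]
    exact P.not_dvd_index
  have hcop : (Nat.card T').Coprime T'.index := by
    obtain ⟨e, he⟩ := IsPGroup.iff_card.1 hT'p
    rw [he]
    exact Nat.Coprime.pow_left e (Nat.coprime_two_left.2 hidx)
  obtain ⟨H, hH⟩ := Subgroup.exists_right_complement'_of_coprime hcop
  set R := H.map X.subtype with hR
  have hRX : R ≤ X := map_subtype_le H
  have hdec : ∀ g ∈ X, ∃ u ∈ F.T, ∃ h ∈ R, g = u * h := by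
    intro g hg
    obtain ⟨⟨⟨a, ha⟩, ⟨b, hb⟩⟩, hab⟩ := hH.2 ⟨g, hg⟩
    exact ⟨a, ha, b, mem_map_of_mem X.subtype hb, (congrArg Subtype.val hab).symm⟩
  have hRcard : Nat.card R = T'.index := by
    rw [hR, Subgroup.card_map_of_injective X.subtype_injective, hH.symm.index_eq_card]
  obtain ⟨g, hgG, hg⟩ := F.cov s
  obtain ⟨u, hu, σ, hσR, hσ⟩ := hdec g ⟨hgG, 1, by rwa [pow_one]⟩
  have hσa : S.Acts σ s := by
    have := hg.mul_left (inv_mem (F.le_C hu))
    rwa [hσ, inv_mul_cancel_left] at this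
  obtain ⟨t, htG, ht⟩ := F.cov τ
  have hti : (τ⁻¹ : W ≃ₗ[ZMod 2] W) = τ := inv_eq_of_mul_eq_one_right hτ
  have hconjX : ∀ x ∈ X, t * x * t⁻¹ ∈ X := by
    rintro x ⟨hx, i, hi⟩
    refine ⟨mul_mem (mul_mem htG hx) (inv_mem htG), j * i, ?_⟩
    have h1 := (ht.mul hi).mul ht.inv
    have h2 : τ * s ^ i * τ⁻¹ = s ^ (j * i) := by
      rw [← conj_pow, hti, hsτ, ← pow_mul]
    rwa [h2] at h1
  have hB : MulAut.conj t • R ≤ R ⊔ F.T := by
    intro x hx
    rw [Coprime.mem_conj_smul] at hx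
    have h1 := hconjX _ (hRX hx)
    rw [show t * (t⁻¹ * x * t) * t⁻¹ = x by group] at h1
    obtain ⟨a, ha, b, hb, rfl⟩ := hdec x h1
    exact mul_mem (mem_sup_right ha) (mem_sup_left hb)
  have hcop' : (Nat.card R).Coprime (Nat.card F.T) := by
    rw [hRcard, ← Nat.card_congr (subgroupOfEquivOfLe hTX).toEquiv]
    exact hcop.symm
  haveI := F.pgroup.isNilpotent
  obtain ⟨v, hv, hvR⟩ := Coprime.exists_conj_eq_of_coprime
    (fun x hx => F.norm (hRX hx).1) hcop'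
    (Or.inr inferInstance) hB (Coprime.card_conj_smul _ _)
  have hnorm : v⁻¹ * t ∈ normalizer (R : Set G) := by
    refine mem_normalizer_iff.2 fun x => ?_
    have h1 : ∀ y, v⁻¹ * y * v ∈ R ↔ t⁻¹ * y * t ∈ R := fun y => by
      rw [← Coprime.mem_conj_smul, ← Coprime.mem_conj_smul, hvR]
    have h2 := h1 (t * x * t⁻¹)
    rw [show t⁻¹ * (t * x * t⁻¹) * t = x by group] at h2
    rw [← h2, show v⁻¹ * t * x * (v⁻¹ * t)⁻¹ = v⁻¹ * (t * x * t⁻¹) * v by group]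
  have ht' : S.Acts (v⁻¹ * t) τ := ht.mul_left (inv_mem (F.le_C hv))
  have ht'G : v⁻¹ * t ∈ F.G1 := mul_mem (inv_mem (F.le hv)) htG
  obtain ⟨e, q, hq, he⟩ := Nat.exists_eq_two_pow_mul_odd (orderOf_pos (v⁻¹ * t)).ne'
  refine ⟨R, σ, (v⁻¹ * t) ^ q, fun x hx => (hRX hx).1, hRcard ▸ hidx, hσR, hσa, pow_mem ht'G _, ?_,
    pow_mem hnorm _, ?_, fun ρ hρ => (hRX hρ).2,
    fun g hg i hi => hdec g ⟨hg, i, hi⟩⟩
  · have h1 := ht'.pow q
    obtain ⟨d, rfl⟩ := hq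
    rwa [pow_succ τ, pow_mul τ, pow_two, hτ, one_pow, one_mul] at h1
  · refine F.mem _ (mul_mem (pow_mem ht'G _) (pow_mem ht'G _)) ?_ e ?_
    · have h1 := (ht'.mul ht').pow q
      rw [hτ, one_pow] at h1
      rw [← pow_two, ← pow_mul, mul_comm q, pow_mul, pow_two]
      exact h1.mem_C_iff.2 rfl
    · rw [← pow_two, ← pow_mul, ← pow_mul, show q * (2 * 2 ^ e) = 2 ^ e * q * 2 by ring, ← he,
        pow_mul, pow_orderOf_eq_one, one_pow]

end Frame

end Cfsg.Agent.Lib.PrimeInvol7
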