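import Cfsg.Agent.Lib.PrimeInvol7.Lift

/-!
# An involution inverting part of a fixed-point-free element of odd order cannot be lifted

If all linear maps of the space of involutions are induced and the dimension is odd and at least 5,
this gives a contradiction.
-/

set_option autoImplicit false
set_option linter.style.haveILetI false

namespace Cfsg.Agent.Lib.PrimeInvol7

open Subgroup

universe u v

variable {G : Type u} [Group G] [Finite G] {W : Type v} [AddCommGroup W] [Module (ZMod 2) W]
  {S : Setup G W}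

theorem fpf_false (F : Frame S) {s τ : W ≃ₗ[ZMod 2] W} {r : ℕ} (hr : Odd r) (hs : s ^ r = 1)
    (hτ : τ * τ = 1) (hτ1 : τ ≠ 1) {j : ℕ} (hsτ : τ * s * τ = s ^ j)
    (hfpf : ∀ w, s w = w → w = 0) : False := by
  classical
  obtain ⟨R, σ, t, hRG, hodd, hσR, hσ, htG, ht, htR, htT, -, -⟩ := F.exists_lift hr hs hτ hsτ
  have hc := F.commute_of_normalizes hRG hodd htT (mul_mem htR htR) σ hσR
  apply hτ1
  rw [← ht.mem_C_iff]
  by_contra htC
  obtain ⟨e, he⟩ := F.pgroup ⟨t * t, htT⟩
  have he' : (t * t) ^ 2 ^ e = 1 := congrArg Subtype.val he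
  have hex : ∃ l : ℕ, (t * t) ^ 2 ^ l = 1 := ⟨e, he'⟩
  rcases hl : Nat.find hex with _ | l
  · have h1 := Nat.find_spec hex
    rw [hl, pow_zero, pow_one] at h1
    exact htC (S.mem_C_of_sq h1)
  · have h1 := Nat.find_spec hex
    rw [hl, pow_succ 2 l, pow_mul, pow_two] at h1
    obtain ⟨w, hw⟩ := (S.sq_eq_one _).1 h1
    have h2 : σ * S.ι w = S.ι w * σ := by
      rw [hw]
      exact (Commute.pow_left (show Commute (t * t) σ from hc) _).eq.symm
    rw [hσ.commute_iff] at h2
    have h3 := hfpf w h2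
    subst h3
    rw [S.map_zero] at hw
    exact Nat.find_min hex (by omega) hw.symm

/-- The model of dimension `2 j + 3`. -/
abbrev PairSpace (j : ℕ) : Type := (Fin j → ZMod 2 × ZMod 2) × (ZMod 2 × ZMod 2 × ZMod 2)

/-- Order 3 without fixed points on a plane. -/
def planeRot : (ZMod 2 × ZMod 2) ≃ₗ[ZMod 2] (ZMod 2 × ZMod 2) where
  toFun v := (v.2, v.1 + v.2)
  invFun v := (v.1 + v.2, v.1)
  map_add' := by decide
  map_smul' := by decide
  left_inv := by decide
  right_inv := by decide

/-- The swap of a plane. -/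
def planeSwap : (ZMod 2 × ZMod 2) ≃ₗ[ZMod 2] (ZMod 2 × ZMod 2) where
  toFun v := (v.2, v.1)
  invFun v := (v.2, v.1)
  map_add' := by decide
  map_smul' := by decide
  left_inv := by decide
  right_inv := by decide

/-- Order 7 without fixed points on a space of dimension 3. -/
def seven : (ZMod 2 × ZMod 2 × ZMod 2) ≃ₗ[ZMod 2] (ZMod 2 × ZMod 2 × ZMod 2) where
  toFun v := (v.2.1, v.2.2, v.1 + v.2.1)
  invFun v := (v.1 + v.2.2, v.1, v.2.1)
  map_add' := by decide
  map_smul' := by decide
  left_inv := by decide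
  right_inv := by decide

theorem prodCongr_pow {P Q : Type*} [AddCommGroup P] [AddCommGroup Q] [Module (ZMod 2) P]
    [Module (ZMod 2) Q] (a : P ≃ₗ[ZMod 2] P) (b : Q ≃ₗ[ZMod 2] Q) :
    ∀ (n : ℕ) (x : P × Q), ((a.prodCongr b) ^ n) x = ((a ^ n) x.1, (b ^ n) x.2)
  | 0, _ => rfl
  | n + 1, x => by
    rw [pow_succ, pow_succ, pow_succ]
    exact prodCongr_pow a b n (a x.1, b x.2)

theorem piCongr_pow {j : ℕ} {P : Type*} [AddCommGroup P] [Module (ZMod 2) P]
    (a : P ≃ₗ[ZMod 2] P) : ∀ (n : ℕ) (f : Fin j → P) (i : Fin j),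
      ((LinearEquiv.piCongrRight (fun _ : Fin j => a)) ^ n) f i = (a ^ n) (f i)
  | 0, _, _ => rfl
  | n + 1, f, i => by
    rw [pow_succ, pow_succ]
    exact piCongr_pow a n (fun l => a (f l)) i

theorem pair_false {j : ℕ} (hj : 1 ≤ j) {S : Setup G (PairSpace j)} (F : Frame S) : False := by
  refine fpf_false F (s := (LinearEquiv.piCongrRight fun _ => planeRot).prodCongr seven)
    (τ := (LinearEquiv.piCongrRight fun _ => planeSwap).prodCongr (LinearEquiv.refl _ _))
    (r := 21) (j := 8) (by decide) ?_ ?_ ?_ ?_ ?_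
  · refine LinearEquiv.ext fun x => ?_
    rw [prodCongr_pow]
    refine Prod.ext (funext fun i => ?_) ?_
    · show (((LinearEquiv.piCongrRight fun _ => planeRot) ^ 21) x.1) i = x.1 i
      rw [piCongr_pow]
      exact (show ∀ v, (planeRot ^ 21) v = v by decide) _
    · show (seven ^ 21) x.2 = x.2
      exact (show ∀ v, (seven ^ 21) v = v by decide) _
  · exact LinearEquiv.ext fun x => rfl
  · intro h
    have := DFunLike.congr_fun h ((fun _ => (1, 0)), 0)
    exact absurd (congrFun (congrArg Prod.fst this) ⟨0, hj⟩) (show ((0 : ZMod 2), (1 : ZMod 2)) ≠ (1, 0) by decide)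
  · refine LinearEquiv.ext fun x => ?_
    rw [prodCongr_pow]
    refine Prod.ext (funext fun i => ?_) ?_
    · show planeSwap (planeRot (planeSwap (x.1 i))) =
        (((LinearEquiv.piCongrRight fun _ => planeRot) ^ 8) x.1) i
      rw [piCongr_pow]
      exact (show ∀ v, planeSwap (planeRot (planeSwap v)) = (planeRot ^ 8) v by decide) _
    · show seven x.2 = (seven ^ 8) x.2
      exact (show ∀ v, seven v = (seven ^ 8) v by decide) _
  · rintro ⟨f, v⟩ h
    refine Prod.ext (funext fun i => ?_) ?_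
    · have h1 : planeRot (f i) = f i := congrFun (congrArg Prod.fst h) i
      exact (show ∀ p, planeRot p = p → p = 0 by decide) _ h1
    · have h1 : seven v = v := congrArg Prod.snd h
      exact (show ∀ p, seven p = p → p = 0 by decide) _ h1

end Cfsg.Agent.Lib.PrimeInvol7
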