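import Mathlib
import Cfsg.Agent.Lib.Spectrum.SL25Recognition

/-!
# Perfect groups acting on elementary abelian groups
-/

set_option autoImplicit false
set_option linter.style.haveILetI false
set_option linter.unusedSectionVars false

namespace Cfsg.Agent.Lib.PrimeInvol7

open Module

theorem perfect_derivedSeries {L : Type*} [Group L] (hperf : commutator L = ⊤) :
    ∀ n, derivedSeries L n = ⊤
  | 0 => rfl
  | n + 1 => by
    rw [derivedSeries_succ, perfect_derivedSeries hperf n, ← _root_.commutator_def, hperf]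

/-- A perfect group has only the trivial image in a solvable group. -/
theorem eq_one_of_perfect {L H : Type*} [Group L] [Group H] (hperf : commutator L = ⊤)
    (hH : Group.IsSolvable H) (f : L →* H) (l : L) : f l = 1 := by
  obtain ⟨n, hn⟩ := hH
  have h := map_derivedSeries_le_derivedSeries f n
  rw [hn, perfect_derivedSeries hperf n] at h
  exact Subgroup.mem_bot.1 (h ⟨l, Subgroup.mem_top l, rfl⟩)

variable {r : ℕ} [Fact r.Prime] {A : Type*} [AddCommGroup A] [Finite A] [Module (ZMod r) A]

theorem natCard_aut_two (h : finrank (ZMod r) A = 2) :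
    Nat.card (A ≃ₗ[ZMod r] A) = (r ^ 2 - 1) * (r ^ 2 - r) := by
  have : Module.Finite (ZMod r) A := Module.Finite.of_finite
  let b := Module.finBasisOfFinrankEq (ZMod r) A h
  rw [← Nat.card_congr (LinearMap.GeneralLinearGroup.generalLinearEquiv (ZMod r) A).toEquiv,
    Nat.card_congr (Units.mapEquiv (LinearMap.toMatrixAlgEquiv b).toMulEquiv).toEquiv]
  show Nat.card (GL (Fin 2) (ZMod r)) = _
  rw [Matrix.card_GL_field, Fin.prod_univ_two, ZMod.card]
  simp

/-- In odd characteristic the eigenspace of `-1` of an involution in a perfect group is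
even-dimensional. -/
theorem minus_even (hr : r ≠ 2) {L : Type*} [Group L] (hperf : commutator L = ⊤)
    (ρ : L →* (A ≃ₗ[ZMod r] A)) (t : L) (ht : t * t = 1) :
    ∃ d : ℕ, Even d ∧ Nat.card {a : A // ρ t a = -a} = r ^ d := by
  have : Module.Finite (ZMod r) A := Module.Finite.of_finite
  have h2 : (2 : ZMod r) ≠ 0 := by
    intro h
    have h' : ((2 : ℕ) : ZMod r) = 0 := h
    rw [ZMod.natCast_eq_zero_iff] at h'
    exact hr ((Nat.prime_dvd_prime_iff_eq Fact.out Nat.prime_two).1 h')
  set f : A →ₗ[ZMod r] A := (ρ t).toLinearMap with hf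
  have hff : ∀ v, f (f v) = v := fun v => by
    show (ρ t * ρ t) v = v
    rw [← map_mul, ht, map_one]
    rfl
  let P := LinearMap.ker (f - 1)
  let M := LinearMap.ker (f + 1)
  have hP : ∀ v, v ∈ P ↔ f v = v := fun v => by
    show (f - 1) v = 0 ↔ _
    rw [LinearMap.sub_apply, Module.End.one_apply, sub_eq_zero]
  have hM : ∀ v, v ∈ M ↔ f v = -v := fun v => by
    show (f + 1) v = 0 ↔ _
    rw [LinearMap.add_apply, Module.End.one_apply, add_eq_zero_iff_eq_neg]
  have hc : IsCompl P M := by
    refine ⟨?_, ?_⟩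
    · rw [Submodule.disjoint_def]
      intro v h1 h3
      rw [hP] at h1
      rw [hM, h1, eq_neg_iff_add_eq_zero, ← two_smul (ZMod r)] at h3
      exact (smul_eq_zero.1 h3).resolve_left h2
    · rw [codisjoint_iff_le_sup]
      intro v _
      have : v = (2 : ZMod r)⁻¹ • (v + f v) + (2 : ZMod r)⁻¹ • (v - f v) := by
        rw [← smul_add, show v + f v + (v - f v) = (2 : ZMod r) • v by module, inv_smul_smul₀ h2]
      rw [this]
      refine Submodule.add_mem_sup ((hP _).2 ?_) ((hM _).2 ?_)
      · rw [map_smul, map_add, hff, add_comm]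
      · rw [map_smul, map_sub, hff, ← smul_neg, neg_sub]
  set e := Submodule.prodEquivOfIsCompl P M hc
  have he : f = e.toLinearMap ∘ₗ
      (LinearMap.id.prodMap ((-1 : ZMod r) • LinearMap.id)) ∘ₗ e.symm.toLinearMap := by
    refine LinearMap.ext fun v => ?_
    obtain ⟨⟨⟨a, ha⟩, ⟨b, hb⟩⟩, rfl⟩ := e.surjective v
    rw [hP] at ha
    rw [hM] at hb
    show f (e (_, _)) = e ((LinearMap.id.prodMap _) (e.symm (e _)))
    rw [e.symm_apply_apply]
    simp [e, Submodule.coe_prodEquivOfIsCompl', ha, hb]
  have hdet : LinearMap.det f = 1 := by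
    have h1 : (LinearEquiv.det (ρ t)) = 1 :=
      eq_one_of_perfect hperf (Group.isSolvable_of_comm fun a b => mul_comm a b)
        (LinearEquiv.det.comp ρ) t
    rw [hf, ← LinearEquiv.coe_det, h1, Units.val_one]
  rw [he, LinearMap.det_conj, LinearMap.det_prodMap, LinearMap.det_id, one_mul, LinearMap.det_smul,
    LinearMap.det_id, mul_one] at hdet
  refine ⟨finrank (ZMod r) M, ?_, ?_⟩
  · rcases Nat.even_or_odd (finrank (ZMod r) M) with h | h
    · exact h
    · rw [h.neg_one_pow] at hdet
      exact absurd (show (2 : ZMod r) = 0 by linear_combination -hdet) h2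
  · have h := Module.natCard_eq_pow_finrank (K := ZMod r) (V := M)
    rw [Nat.card_zmod] at h
    rw [← h]
    exact Nat.card_congr (Equiv.subtypeEquivRight fun v => (hM v).symm)

theorem trivial_of_nine {A : Type*} [AddCommGroup A] [Finite A] [Module (ZMod 3) A]
    (hcard : Nat.card A = 9) {L : Type*} [Group L] (hperf : commutator L = ⊤)
    (ρ : L →* (A ≃ₗ[ZMod 3] A)) (l : L) : ρ l = 1 := by
  haveI : Fact (Nat.Prime 3) := ⟨Nat.prime_three⟩
  have : Module.Finite (ZMod 3) A := Module.Finite.of_finite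
  have h := Module.natCard_eq_pow_finrank (K := ZMod 3) (V := A)
  rw [hcard, Nat.card_zmod] at h
  have h2 : finrank (ZMod 3) A = 2 :=
    Nat.pow_right_injective (show 2 ≤ 3 by norm_num) (show 3 ^ finrank (ZMod 3) A = 3 ^ 2 from h.symm)
  have hc := natCard_aut_two h2
  norm_num at hc
  haveI : Finite (A ≃ₗ[ZMod 3] A) := Nat.finite_of_card_ne_zero (by omega)
  exact eq_one_of_perfect hperf (Spectrum.isSolvable_of_card_lt_sixty _ hc (by norm_num)) ρ l

section Mul

variable {M : Type*} [CommGroup M] [Finite M]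

/-- An automorphism of an elementary abelian group as a linear equivalence. -/
def linRep (s : ℕ) [Module (ZMod s) (Additive M)] :
    MulAut M →* (Additive M ≃ₗ[ZMod s] Additive M) where
  toFun a := (MulEquiv.toAdditive a).toLinearEquiv (ZMod.map_smul (MulEquiv.toAdditive a))
  map_one' := LinearEquiv.ext fun _ => rfl
  map_mul' _ _ := LinearEquiv.ext fun _ => rfl

theorem minus_card {s : ℕ} [Fact s.Prime] (hs : s ≠ 2) (hexp : ∀ m : M, m ^ s = 1) {L : Type*}
    [Group L] (hperf : commutator L = ⊤) (ρ : L →* MulAut M) (t : L) (ht : t * t = 1) :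
    ∃ d : ℕ, Even d ∧ Nat.card {m : M // ρ t m = m⁻¹} = s ^ d :=
  letI : Module (ZMod s) (Additive M) := AddCommGroup.zmodModule fun a => hexp a.toMul
  let ⟨d, hd, hc⟩ := minus_even hs hperf ((linRep s).comp ρ) t ht
  ⟨d, hd, hc ▸ Nat.card_congr (Equiv.subtypeEquiv Additive.ofMul fun _ => Iff.rfl)⟩

theorem trivial_of_mul_nine (hexp : ∀ m : M, m ^ 3 = 1) (hcard : Nat.card M = 9) {L : Type*}
    [Group L] (hperf : commutator L = ⊤) (ρ : L →* MulAut M) (l : L) (m : M) : ρ l m = m :=
  letI : Module (ZMod 3) (Additive M) := AddCommGroup.zmodModule fun a => hexp a.toMul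
  congrArg (fun e : Additive M ≃ₗ[ZMod 3] Additive M => (e (Additive.ofMul m)).toMul)
    (trivial_of_nine (A := Additive M) ((Nat.card_congr Additive.toMul).trans hcard) hperf
      ((linRep 3).comp ρ) l)

end Mul

end Cfsg.Agent.Lib.PrimeInvol7
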