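import Cfsg.Agent.Lib.PrimeInvol7.Central
import Cfsg.Agent.Lib.PrimeInvol7.Abelian
import Cfsg.Agent.Lib.PrimeInvol7.FrobLinear
import Cfsg.Agent.Lib.Coprime.Glauberman

/-!
# Seven involutions on which all linear maps are induced: impossible
-/

set_option autoImplicit false
set_option linter.style.haveILetI false
set_option linter.unusedSectionVars false

namespace Cfsg.Agent.Lib.PrimeInvol7

open Subgroup
open scoped commutatorElement Pointwise

universe u v

variable {G : Type u} [Group G]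

/-- The subgroup of all involutions and `1`. -/
def Setup.N {W : Type v} [AddCommGroup W] [Module (ZMod 2) W] (S : Setup G W) : Subgroup G where
  carrier := {x | x * x = 1}
  one_mem' := mul_one 1
  mul_mem' := fun {a b} ha hb => by
    obtain ⟨x, rfl⟩ := (S.sq_eq_one a).1 ha
    obtain ⟨y, rfl⟩ := (S.sq_eq_one b).1 hb
    rw [Set.mem_ofPred_eq, ← S.map_add]
    exact S.ι_sq _
  inv_mem' := fun {a} ha => by
    rw [Set.mem_ofPred_eq] at ha ⊢
    rw [← mul_inv_rev, ha, inv_one]

theorem Setup.mem_N {W : Type v} [AddCommGroup W] [Module (ZMod 2) W] (S : Setup G W) {x : G} :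
    x ∈ S.N ↔ x * x = 1 := Iff.rfl

instance Setup.N_normal {W : Type v} [AddCommGroup W] [Module (ZMod 2) W] (S : Setup G W) :
    S.N.Normal :=
  ⟨fun n hn g => by
    rw [S.mem_N] at hn ⊢
    calc g * n * g⁻¹ * (g * n * g⁻¹) = g * (n * n) * g⁻¹ := by group
      _ = 1 := by rw [hn, mul_one, mul_inv_cancel]⟩

theorem Setup.N_isPGroup {W : Type v} [AddCommGroup W] [Module (ZMod 2) W] (S : Setup G W) :
    IsPGroup 2 S.N := fun n => ⟨1, Subtype.ext (by rw [pow_one, sq]; exact n.2)⟩

theorem cube_one_ne : ((1, 1, 1) : Cube) ≠ 0 := by decide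

theorem cube_card_erase : ((Finset.univ : Finset Cube).erase 0).card = 7 := rfl

variable [Finite G] {S : Setup G Cube}

/-- The part with trivial action of `C` modulo the centre, on an abstract copy of `T / Z(T)`. -/
theorem semi_false (F : Frame S) {V : Type u} [AddCommGroup V] [Module (ZMod 2) V] [Finite V]
    (hV : Nat.card V = 64) (π : F.T → V) (hπ : Function.Surjective π)
    (hπmul : ∀ a b, π (a * b) = π a + π b)
    (hπ0 : ∀ a, π a = 0 ↔ (a : G) * a = 1)
    (hSuz : Suz F.T)
    (htriv : ∀ c ∈ F.G1, c ∈ S.C → ∀ x ∈ F.T, x⁻¹ * (c * x * c⁻¹) ∈ S.N) : False := by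
  classical
  haveI : Fact (Nat.Prime 2) := ⟨Nat.prime_two⟩
  letI := Fintype.ofFinite V
  have hcen : ∀ a : F.T, a ∈ center F.T ↔ (a : G) ∈ S.N := fun a => by
    rw [hSuz.mem_center]
    exact ⟨fun h => congrArg Subtype.val h, fun h => Subtype.ext h⟩
  have hπeq : ∀ a b : F.T, π a = π b ↔ ((a : G)⁻¹ * b) ∈ S.N := by
    intro a b
    have h1 : π b = π a + π (a⁻¹ * b) := by rw [← hπmul, mul_inv_cancel_left]
    rw [h1, left_eq_add, hπ0]
    rfl
  have hπone : π 1 = 0 := (hπ0 1).2 (mul_one 1)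
  -- the squaring map
  have hsqex : ∀ a : F.T, ∃ w : Cube, S.ι w = (a : G) * a := fun a =>
    (S.sq_eq_one _).1 ((hcen (a * a)).1 (hSuz.sq_mem a))
  choose sq hsq using hsqex
  have hsq0 : ∀ a : F.T, sq a = 0 ↔ π a = 0 := fun a => by
    rw [hπ0, ← S.eq_one_iff, hsq]
  have hsqeq : ∀ a b : F.T, π a = π b → sq a = sq b := fun a b h => S.inj (by
    rw [hsq, hsq]
    exact congrArg Subtype.val (hSuz.sq_eq_of_mem ((hcen (a⁻¹ * b)).2 ((hπeq a b).1 h))))
  let rep := Function.surjInv hπ
  have hrep : ∀ v, π (rep v) = v := Function.surjInv_eq hπ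
  let qv : V → Cube := fun v => sq (rep v)
  have hqv : ∀ a, qv (π a) = sq a := fun a => hsqeq _ _ (hrep _)
  have hqv0 : ∀ v, qv v = 0 ↔ v = 0 := fun v => by
    obtain ⟨a, rfl⟩ := hπ v
    rw [hqv, hsq0]
  -- the action of the linear group
  let cj : (g : G) → g ∈ F.G1 → F.T → F.T := fun g hg a => ⟨g * a * g⁻¹, F.conj_mem hg a.2⟩
  choose lift hliftG hlift using F.cov
  have hcj : ∀ (g : G) (hg : g ∈ F.G1) (a b : F.T), π a = π b → π (cj g hg a) = π (cj g hg b) := by
    intro g hg a b h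
    rw [hπeq] at h ⊢
    show (g * a * g⁻¹)⁻¹ * (g * b * g⁻¹) ∈ S.N
    rw [show (g * (a : G) * g⁻¹)⁻¹ * (g * b * g⁻¹) = g * ((a : G)⁻¹ * b) * g⁻¹ by group]
    exact S.N_normal.conj_mem _ h g
  have hsame : ∀ (g g' : G) (hg : g ∈ F.G1) (hg' : g' ∈ F.G1) (e : Cube ≃ₗ[ZMod 2] Cube) (a : F.T),
      S.Acts g e → S.Acts g' e → π (cj g hg a) = π (cj g' hg' a) := by
    intro g g' hg hg' e a he he'
    rw [hπeq]
    show (g * a * g⁻¹)⁻¹ * (g' * a * g'⁻¹) ∈ S.N
    have hC : g⁻¹ * g' ∈ S.C := by rw [(he.inv.mul he').mem_C_iff, inv_mul_cancel]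
    rw [show (g * (a : G) * g⁻¹)⁻¹ * (g' * a * g'⁻¹) =
      g * ((a : G)⁻¹ * ((g⁻¹ * g') * a * (g⁻¹ * g')⁻¹)) * g⁻¹ by group]
    exact S.N_normal.conj_mem _ (htriv _ (mul_mem (inv_mem hg) hg') hC _ a.2) g
  let ρ : (Cube ≃ₗ[ZMod 2] Cube) → Module.End (ZMod 2) V := fun e =>
    (AddMonoidHom.mk' (fun v => π (cj (lift e) (hliftG e) (rep v))) fun u v => by
      rw [← hπmul]
      have h1 : π (rep (u + v)) = π (rep u * rep v) := by rw [hπmul, hrep, hrep, hrep]
      rw [hcj _ (hliftG e) _ _ h1]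
      congr 1
      refine Subtype.ext ?_
      show lift e * ((rep u : G) * rep v) * (lift e)⁻¹ =
        lift e * rep u * (lift e)⁻¹ * (lift e * rep v * (lift e)⁻¹)
      group).toZModLinearMap 2
  have hρ : ∀ {g : G} {e : Cube ≃ₗ[ZMod 2] Cube} (hg : g ∈ F.G1), S.Acts g e →
      ∀ a : F.T, ρ e (π a) = π (cj g hg a) := by
    intro g e hg he a
    show π (cj (lift e) (hliftG e) (rep (π a))) = _
    rw [hcj _ (hliftG e) _ _ (hrep (π a))]
    exact hsame _ _ (hliftG e) hg e a (hlift e) he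
  have hρmul : ∀ e e', ρ (e * e') = ρ e * ρ e' := fun e e' => LinearMap.ext fun v => by
    obtain ⟨a, rfl⟩ := hπ v
    rw [Module.End.mul_apply, hρ (mul_mem (hliftG e) (hliftG e')) ((hlift e).mul (hlift e')),
      hρ (hliftG e') (hlift e'), hρ (hliftG e) (hlift e)]
    refine congrArg π (Subtype.ext ?_)
    show lift e * lift e' * a * (lift e * lift e')⁻¹ =
      lift e * (lift e' * a * (lift e')⁻¹) * (lift e)⁻¹
    group
  have hρone : ρ 1 = 1 := LinearMap.ext fun v => by
    obtain ⟨a, rfl⟩ := hπ v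
    rw [hρ (one_mem _) Setup.Acts.one]
    exact congrArg π (Subtype.ext (show (1 : G) * a * 1⁻¹ = a by group))
  let ρh : (Cube ≃ₗ[ZMod 2] Cube) →* Module.End (ZMod 2) V :=
    { toFun := ρ, map_one' := hρone, map_mul' := hρmul }
  have hqρ : ∀ e v, qv (ρ e v) = e (qv v) := fun e v => by
    obtain ⟨a, rfl⟩ := hπ v
    rw [hρ (hliftG e) (hlift e), hqv, hqv]
    refine S.inj ?_
    rw [hsq, ← hlift, hsq]
    show lift e * a * (lift e)⁻¹ * (lift e * a * (lift e)⁻¹) = _
    group
  set x := ρ cX with hxd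
  set t := ρ cT with htd
  have hx3 : x ^ 3 = 1 := by
    show (ρh cX) ^ 3 = 1
    rw [← map_pow, cX_pow, map_one]
  have hxxx : ∀ v, x (x (x v)) = v := fun v => by
    have := DFunLike.congr_fun hx3 v
    rwa [pow_succ, pow_two] at this
  have hV6 : Module.finrank (ZMod 2) V = 6 := by
    have : Module.Finite (ZMod 2) V := Module.Finite.of_finite
    have h := Module.natCard_eq_pow_finrank (K := ZMod 2) (V := V)
    rw [hV, Nat.card_zmod] at h
    exact Nat.pow_right_injective le_rfl (show 2 ^ Module.finrank (ZMod 2) V = 2 ^ 6 from h.symm)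
  haveI : Nontrivial V := Finite.one_lt_card_iff_nontrivial.1 (by rw [hV]; norm_num)
  -- the fibres have nine elements
  let fib : Cube → Finset V := fun w => Finset.univ.filter fun v => qv v = w
  have hfib0 : (fib 0).card = 1 := by
    rw [Finset.card_eq_one]
    exact ⟨0, Finset.ext fun v => by simp [fib, hqv0]⟩
  have hfib : (fib (1, 1, 1)).card = 9 := by
    have hle : ∀ w w' : Cube, w ≠ 0 → w' ≠ 0 → (fib w).card ≤ (fib w').card := by
      intro w w' hw hw'
      obtain ⟨i, hi⟩ := cY_trans w w' hw hw'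
      refine Finset.card_le_card_of_injOn (ρ (cY ^ (i : ℕ))) (fun v hv => ?_) fun a _ b _ hab => ?_
      · simp only [fib, Finset.coe_filter, Finset.mem_univ, true_and, Set.mem_ofPred_eq] at hv ⊢
        rw [hqρ, hv, hi]
      · have := congrArg (ρ ((cY ^ (i : ℕ))⁻¹)) hab
        rwa [← Module.End.mul_apply, ← Module.End.mul_apply, ← hρmul, inv_mul_cancel, hρone,
          Module.End.one_apply, Module.End.one_apply] at this
    have h1 := Finset.card_eq_sum_card_fiberwise (s := (Finset.univ : Finset V))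
      (t := (Finset.univ : Finset Cube)) (f := qv) fun v _ => Finset.mem_univ _
    rw [Finset.card_univ, ← Nat.card_eq_fintype_card, hV,
      ← Finset.add_sum_erase _ _ (Finset.mem_univ (0 : Cube))] at h1
    rw [Finset.sum_congr rfl fun w hw => le_antisymm
      (hle w (1, 1, 1) (Finset.ne_of_mem_erase hw) cube_one_ne)
      (hle (1, 1, 1) w cube_one_ne (Finset.ne_of_mem_erase hw)), Finset.sum_const,
      cube_card_erase, smul_eq_mul] at h1
    change 64 = (fib 0).card + 7 * (fib (1, 1, 1)).card at h1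
    omega
  -- the fixed plane
  have hFmem : ∀ v, v ∈ LinearMap.ker (x + 1) ↔ x v = v := fun v => by
    rw [LinearMap.mem_ker, LinearMap.add_apply, Module.End.one_apply]
    exact ⟨fun h => by rw [← add_zero (x v), ← add_self_zero v, ← add_assoc, h, zero_add],
      fun h => by rw [h, add_self_zero]⟩
  have hqfix : ∀ v, x v = v → v ≠ 0 → qv v = (1, 1, 1) := fun v hv hv0 => by
    refine (cX_fixed _ ?_).resolve_left fun h => hv0 ((hqv0 v).1 h)
    rw [← hqρ, ← hxd, hv]
  have hFcard : (Finset.univ.filter fun v => x v = v).card = 4 := by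
    set Fs := Finset.univ.filter fun v => x v = v with hFs
    obtain ⟨d, hd⟩ : ∃ d, Fs.card = 2 ^ d := by
      refine ⟨Module.finrank (ZMod 2) (LinearMap.ker (x + 1)), ?_⟩
      have : Module.Finite (ZMod 2) V := Module.Finite.of_finite
      have h := Module.natCard_eq_pow_finrank (K := ZMod 2) (V := LinearMap.ker (x + 1))
      rw [Nat.card_zmod] at h
      rw [← h, Nat.subtype_card Fs fun v => ?_]
      rw [hFmem, hFs]
      simp
    have hsub : (Fs.erase 0).card ≤ 9 := by
      rw [← hfib]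
      refine Finset.card_le_card fun v hv => ?_
      rw [Finset.mem_erase, hFs, Finset.mem_filter] at hv
      simp [fib, hqfix v hv.2.2 hv.1]
    rw [Finset.card_erase_of_mem (by simp [hFs]), hd] at hsub
    have hmod : (Fs.erase 0).card ≡ 9 [MOD 3] := by
      let α := {v // qv v = (1, 1, 1)}
      have hx1 : ∀ v, qv v = (1, 1, 1) → qv (x v) = (1, 1, 1) := fun v hv => by
        rw [hqρ, hv]; rfl
      let σ : Equiv.Perm α :=
        { toFun := fun v => ⟨x v.1, hx1 _ v.2⟩
          invFun := fun v => ⟨x (x v.1), hx1 _ (hx1 _ v.2)⟩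
          left_inv := fun v => Subtype.ext (hxxx _)
          right_inv := fun v => Subtype.ext (hxxx _) }
      have hσ : σ ^ 3 ^ 1 = 1 := Equiv.ext fun v => Subtype.ext (hxxx _)
      haveI : Fact (Nat.Prime 3) := ⟨Nat.prime_three⟩
      have h := Equiv.Perm.card_compl_support_modEq hσ
      rw [show Fintype.card α = 9 by rw [Fintype.card_subtype]; exact hfib] at h
      have hcard : σ.supportᶜ.card = (Fs.erase 0).card := by
        refine Finset.card_bij (fun v _ => v.1) (fun v hv => ?_) (fun a _ b _ h => Subtype.ext h)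
          fun v hv => ?_
        · rw [Finset.mem_compl, Equiv.Perm.notMem_support] at hv
          rw [Finset.mem_erase, hFs, Finset.mem_filter]
          refine ⟨fun h0 => ?_, Finset.mem_univ _, congrArg Subtype.val hv⟩
          have h1 := v.2
          rw [(hqv0 _).2 h0] at h1
          exact cube_one_ne h1.symm
        · rw [Finset.mem_erase, hFs, Finset.mem_filter] at hv
          refine ⟨⟨v, hqfix v hv.2.2 hv.1⟩, ?_, rfl⟩
          rw [Finset.mem_compl, Equiv.Perm.notMem_support]
          exact Subtype.ext hv.2.2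
      rwa [hcard] at h
    rw [Finset.card_erase_of_mem (by simp [hFs]), hd] at hmod
    have hd0 : d ≠ 0 := by
      rintro rfl
      have hY7 : (ρ cY) ^ 7 = 1 := by
        show (ρh cY) ^ 7 = 1
        rw [← map_pow, cY_pow, map_one]
      obtain ⟨v, hv0, hv⟩ := fixed_ne_zero x (ρ cY) hx3 hY7
        (fun v hv => (hqv0 v).1 (cY_fixed _ (by rw [← hqρ, hv])))
        (show ρh cX * ρh cY = (ρh cY) ^ 2 * ρh cX by rw [← map_pow, ← map_mul, ← map_mul, cX_cY])
      exact hv0 (Finset.card_le_one.1 hd.le v (by simp [hFs, hv]) 0 (by simp [hFs]))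
    have hd3 : d ≤ 3 := by
      by_contra h
      have : 2 ^ 4 ≤ 2 ^ d := Nat.pow_le_pow_right (by norm_num) (by omega)
      omega
    rw [hd]
    interval_cases d <;> simp_all [Nat.ModEq]
  have hF2 : Module.finrank (ZMod 2) (LinearMap.ker (x + 1)) = 2 := by
    have : Module.Finite (ZMod 2) V := Module.Finite.of_finite
    have h := Module.natCard_eq_pow_finrank (K := ZMod 2) (V := LinearMap.ker (x + 1))
    rw [Nat.card_zmod, Nat.subtype_card (Finset.univ.filter fun v => x v = v) (fun v => by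
      rw [hFmem]; simp), hFcard] at h
    exact Nat.pow_right_injective le_rfl
      (show 2 ^ Module.finrank (ZMod 2) (LinearMap.ker (x + 1)) = 2 ^ 2 from h.symm)
  have htF : ∀ v, x v = v → t v = v := by
    refine trivial_on_fixed hV6 x t (ρ cF) hx3 hF2 ?_ ?_ ?_
    · show ρh cT * ρh cT = 1
      rw [← map_mul, cT_sq, map_one]
    · show ρh cT * ρh cX = (ρh cX) ^ 2 * ρh cT
      rw [← map_pow, ← map_mul, ← map_mul, ← cT_cX, mul_assoc, cT_sq, mul_one]
    · show ρh cF * ρh cF = ρh cT
      rw [← map_mul, cF_sq]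
  -- the lifts
  obtain ⟨R, σ, t3, hRG, hodd, hσR, hσ, htG, ht, htR, htT, hRs, -⟩ := F.exists_lift (s := cX)
    (τ := cT) (r := 3) (by decide) cX_pow cT_sq (j := 2) cT_cX
  have hRfix : ∀ v, x v = v → ∀ g ∈ R, ∀ a : F.T, π a = v → (a : G)⁻¹ * (g * a * g⁻¹) ∈ S.N := by
    intro v hv g hg a ha
    obtain ⟨i, hi⟩ := hRs g hg
    refine (hπeq a (cj g (hRG hg) a)).1 ?_
    rw [← hρ (hRG hg) hi, ha]
    show v = (ρh (cX ^ i)) v
    rw [map_pow]
    have hp : ∀ n : ℕ, (x ^ n) v = v := by
      intro n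
      induction n with
      | zero => rfl
      | succ n ih => rw [pow_succ, Module.End.mul_apply, hv, ih]
    exact (hp i).symm
  have hcopN : (Nat.card R).Coprime (Nat.card S.N) := by
    obtain ⟨e, he⟩ := IsPGroup.iff_card.1 S.N_isPGroup
    rw [he]
    exact (Nat.Coprime.pow_left e (Nat.coprime_two_left.2 hodd)).symm
  haveI := S.N_isPGroup.isNilpotent
  have hrepR : ∀ v, x v = v → ∃ u : F.T, π u = v ∧ (u : G) ∈ centralizer (R : Set G) := by
    intro v hv
    obtain ⟨a, rfl⟩ := hπ v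
    obtain ⟨n, hn, hc⟩ := Coprime.exists_mul_fixed (A := R) (N := S.N) (k := (a : G))
      le_normalizer_of_normal hcopN (Or.inr inferInstance) fun g hg => hRfix _ hv g hg a rfl
    obtain ⟨w, rfl⟩ := (S.sq_eq_one n).1 hn
    refine ⟨⟨a * S.ι w, mul_mem a.2 (F.ι_mem w)⟩, ?_, hc⟩
    refine ((hπeq _ _).2 ?_).symm
    show (a : G)⁻¹ * (a * S.ι w) ∈ S.N
    rw [inv_mul_cancel_left]
    exact S.ι_sq w
  set z := S.ι ((1, 1, 1) : Cube) with hz
  have hzz : z * z = 1 := S.ι_sq _
  have hNfix : ∀ n ∈ S.N, Commute n σ → n = 1 ∨ n = z := by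
    intro n hn hc
    obtain ⟨w, rfl⟩ := (S.sq_eq_one n).1 hn
    rcases cX_fixed w ((hσ.commute_iff w).1 hc.eq.symm) with h | h
    · exact Or.inl (by rw [h, S.map_zero])
    · exact Or.inr (by rw [h])
  have hcent : ∀ {a : G}, a ∈ centralizer (R : Set G) → Commute a σ := fun ha =>
    (mem_centralizer_iff.1 ha σ hσR).symm
  have hxfix : ∀ a : F.T, Commute (a : G) σ → x (π a) = π a := fun a ha => by
    rw [hρ (hRG hσR) hσ]
    refine congrArg π (Subtype.ext ?_)
    show σ * a * σ⁻¹ = a
    rw [← ha.eq, mul_inv_cancel_right]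
  have hsqz : ∀ a : F.T, π a ≠ 0 → (a : G) ∈ centralizer (R : Set G) → (a : G) * a = z := fun a ha hc => by
    rw [← hsq, ← hqv, hqfix _ (hxfix a (hcent hc)) ha]
  set Fs := Finset.univ.filter fun v => x v = v with hFs
  obtain ⟨v1, hv1, hv10⟩ : ∃ v, x v = v ∧ v ≠ 0 := by
    obtain ⟨v, hv, hv0⟩ := Finset.exists_mem_ne (by omega : 1 < Fs.card) 0
    exact ⟨v, (Finset.mem_filter.1 hv).2, hv0⟩
  obtain ⟨v2, hv2, hv20, hv21⟩ : ∃ v, x v = v ∧ v ≠ 0 ∧ v ≠ v1 := by
    by_contra h
    push Not at h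
    have : Fs ⊆ {0, v1} := fun v hv => by
      by_cases h0 : v = 0
      · simp [h0]
      · simp [h v (Finset.mem_filter.1 hv).2 h0]
    have h2 := (Finset.card_le_card this).trans Finset.card_le_two
    omega
  have hv30 : v1 + v2 ≠ 0 := fun h => hv21 (by
    rw [← zero_add v2, ← add_self_zero v1, add_assoc, h, add_zero])
  have hall : ∀ v, x v = v → v = 0 ∨ v = v1 ∨ v = v2 ∨ v = v1 + v2 := by
    intro v hv
    by_contra h
    push Not at h
    have hsub : ({0, v1, v2, v1 + v2, v} : Finset V) ⊆ Fs := by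
      intro w hw
      simp only [Finset.mem_insert, Finset.mem_singleton] at hw
      refine Finset.mem_filter.2 ⟨Finset.mem_univ _, ?_⟩
      rcases hw with rfl | rfl | rfl | rfl | rfl <;> simp [hv1, hv2, hv]
    have h5 := Finset.card_le_card hsub
    rw [Finset.card_insert_of_notMem (by simp [hv10.symm, hv20.symm, hv30.symm, h.1.symm]),
      Finset.card_insert_of_notMem (by simp [hv21.symm, h.2.1.symm, hv20]),
      Finset.card_insert_of_notMem (by simp [h.2.2.1.symm, hv10]),
      Finset.card_insert_of_notMem (by simp [h.2.2.2.symm]), Finset.card_singleton] at h5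
    omega
  obtain ⟨u, hu, huR⟩ := hrepR v1 hv1
  obtain ⟨v, hv, hvR⟩ := hrepR v2 hv2
  have hu2 : (u : G) * u = z := hsqz u (by rwa [hu]) huR
  have hv2' : (v : G) * v = z := hsqz v (by rwa [hv]) hvR
  have huv2 : (u : G) * v * (u * v) = z := hsqz (u * v) (by rwa [hπmul, hu, hv]) (mul_mem huR hvR)
  have hcomm : ⁅(v : G), (u : G)⁆ = z := by
    have h := congrArg Subtype.val (hSuz.mul_sq u v)
    change (u : G) * v * (u * v) = (u : G) * u * (v * v) * ⁅(v : G), (u : G)⁆ at h
    rw [huv2, hu2, hv2', hzz, one_mul] at h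
    exact h.symm
  have hznc : ∀ {a : G}, a ∈ F.T → z * a = a * z := fun ha => S.mem_C.1 (F.le_C ha) _
  have hvu : (v : G) * u * (v : G)⁻¹ = u * z := by
    rw [← hznc u.2, ← hcomm, commutatorElement_def]
    group
  have huv : (u : G) * v * (u : G)⁻¹ = v * z := by
    have h : ⁅(u : G), (v : G)⁆ = z := by
      rw [← commutatorElement_inv, hcomm]
      exact inv_eq_of_mul_eq_one_right hzz
    rw [← hznc v.2, ← h, commutatorElement_def]
    group
  have hz1 : z ≠ 1 := fun h => cube_one_ne (S.eq_one_iff.1 h)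
  have hne : (u : G) * v ≠ v * u := fun h => hz1 (by
    have h1 := huv
    rw [h, mul_inv_cancel_right, left_eq_mul] at h1
    exact h1)
  -- correct the lift
  have hnR : ∀ {g a : G}, g ∈ normalizer (R : Set G) → a ∈ centralizer (R : Set G) →
      g * a * g⁻¹ ∈ centralizer (R : Set G) := by
    intro g a hg ha
    refine mem_centralizer_iff.2 fun r hr => ?_
    have h1 : g⁻¹ * r * g ∈ R := (mem_normalizer_iff.1 hg _).2 (by
      rwa [show g * (g⁻¹ * r * g) * g⁻¹ = r by group])
    have h2 := mem_centralizer_iff.1 ha _ h1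
    calc r * (g * a * g⁻¹) = g * ((g⁻¹ * r * g) * a) * g⁻¹ := by group
      _ = g * a * g⁻¹ * r := by rw [h2]; group
  have hmove : ∀ a : F.T, x (π a) = π a → (a : G) ∈ centralizer (R : Set G) →
      t3 * a * t3⁻¹ = a ∨ t3 * a * t3⁻¹ = a * z := by
    intro a ha hc
    have h1 := (hπeq a (cj t3 htG a)).1 ((hρ htG ht a).symm.trans (htF _ ha)).symm
    rcases hNfix _ h1 (hcent (mul_mem (inv_mem hc) (hnR htR hc))) with h | h
    · exact Or.inl ((inv_mul_eq_one.1 h).symm)
    · exact Or.inr (by rw [← h, mul_inv_cancel_left])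
  obtain ⟨d, hdT, hdR, hdu, hdv⟩ : ∃ d ∈ F.T, d ∈ centralizer (R : Set G) ∧
      t3 * u * t3⁻¹ = d * u * d⁻¹ ∧ t3 * v * t3⁻¹ = d * v * d⁻¹ := by
    rcases hmove u (by rw [hu]; exact hv1) huR with h1 | h1 <;>
      rcases hmove v (by rw [hv]; exact hv2) hvR with h2 | h2
    · exact ⟨1, one_mem _, one_mem _, by rw [h1]; group, by rw [h2]; group⟩
    · exact ⟨u, u.2, huR, by rw [h1]; group, by rw [h2, huv]⟩
    · exact ⟨v, v.2, hvR, by rw [h1, hvu], by rw [h2]; group⟩
    · refine ⟨u * v, mul_mem u.2 v.2, mul_mem huR hvR, ?_, ?_⟩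
      · rw [h1]
        calc (u : G) * z = u * (u * z) * (u : G)⁻¹ := by
              rw [mul_assoc, mul_assoc (u : G) z, hznc (inv_mem u.2), mul_inv_cancel_left]
          _ = u * v * u * ((u : G) * v)⁻¹ := by rw [← hvu]; group
      · rw [h2, ← huv]
        group
  set h := d⁻¹ * t3 with hh
  have hhu : Commute h u := by
    show d⁻¹ * t3 * u = u * (d⁻¹ * t3)
    calc d⁻¹ * t3 * u = d⁻¹ * (t3 * u * t3⁻¹) * t3 := by group
      _ = u * (d⁻¹ * t3) := by rw [hdu]; group
  have hhv : Commute h v := by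
    show d⁻¹ * t3 * v = v * (d⁻¹ * t3)
    calc d⁻¹ * t3 * v = d⁻¹ * (t3 * v * t3⁻¹) * t3 := by group
      _ = v * (d⁻¹ * t3) := by rw [hdv]; group
  have hha : S.Acts h cT := ht.mul_left (inv_mem (F.le_C hdT))
  have hhR : h ∈ normalizer (R : Set G) :=
    mul_mem (inv_mem (centralizer_le_normalizer _ hdR)) htR
  have hh2T : h * h ∈ F.T := by
    rw [show h * h = d⁻¹ * (t3 * d⁻¹ * t3⁻¹) * (t3 * t3) by rw [hh]; group]
    exact mul_mem (mul_mem (inv_mem hdT) (F.conj_mem htG (inv_mem hdT))) htT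
  have hh2σ : Commute (h * h) σ :=
    F.commute_of_normalizes hRG hodd hh2T (mul_mem hhR hhR) σ hσR
  have hh2u : Commute (h * h) u := hhu.mul_left hhu
  have hh2v : Commute (h * h) v := hhv.mul_left hhv
  have hbad : ∀ a : F.T, π ⟨h * h, hh2T⟩ = π a → Commute (a : G) u ∧ Commute (a : G) v := by
    intro a ha
    obtain ⟨w, hw⟩ := (S.sq_eq_one _).1 ((hπeq _ _).1 ha)
    have ha' : (a : G) = h * h * S.ι w := by rw [hw, mul_inv_cancel_left]
    rw [ha']
    exact ⟨hh2u.mul_left (S.mem_C.1 (F.le_C u.2) w), hh2v.mul_left (S.mem_C.1 (F.le_C v.2) w)⟩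
  have hh2N : h * h ∈ S.N := by
    rcases hall _ (hxfix ⟨h * h, hh2T⟩ hh2σ) with h0 | h0 | h0 | h0
    · exact (hπ0 _).1 h0
    · exact absurd (hbad u (h0.trans hu.symm)).2.eq hne
    · exact absurd (hbad v (h0.trans hv.symm)).1.eq.symm hne
    · refine absurd ?_ hne
      have h1 := (hbad (u * v) (h0.trans (by rw [hπmul, hu, hv]))).1.eq
      rw [Subgroup.coe_mul, mul_assoc] at h1
      exact (mul_left_cancel h1).symm
  have hhC : h ∈ S.C := by
    rcases hNfix _ hh2N hh2σ with h1 | h1
    · exact S.mem_C_of_sq h1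
    · have h2 : h * u * (h * u) = 1 := by
        calc h * (u : G) * (h * u) = h * (u * h) * u := by group
          _ = h * h * ((u : G) * u) := by rw [← hhu.eq]; group
          _ = 1 := by rw [h1, hu2, hzz]
      have := mul_mem (S.mem_C_of_sq h2) (inv_mem (F.le_C u.2))
      rwa [mul_inv_cancel_right] at this
  exact cT_ne (hha.mem_C_iff.1 hhC)

theorem three_false (F : Frame S) : False := by
  classical
  by_cases hcomm : ∀ x ∈ F.T, ∀ y ∈ F.T, x * y = y * x
  · exact abelian_false F hcomm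
  haveI : Fact (Nat.Prime 7) := ⟨by norm_num⟩
  haveI : Fact (Nat.Prime 2) := ⟨Nat.prime_two⟩
  have hnc : ∃ x y : F.T, x * y ≠ y * x := by
    by_contra h
    push Not at h
    exact hcomm fun x hx y hy => congrArg Subtype.val (h ⟨x, hx⟩ ⟨y, hy⟩)
  have hNT : S.N ≤ F.T := fun n hn => by
    obtain ⟨w, rfl⟩ := (S.sq_eq_one n).1 hn
    exact F.ι_mem w
  have hcardN : Nat.card S.N = 7 + 1 := by
    let e : Cube → S.N := fun w => ⟨S.ι w, S.ι_sq w⟩
    have he : Function.Bijective e := ⟨fun a b h => S.inj (congrArg Subtype.val h), fun n => by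
      obtain ⟨w, hw⟩ := (S.sq_eq_one n).1 n.2
      exact ⟨w, Subtype.ext hw⟩⟩
    rw [← Nat.card_eq_of_bijective e he]
    simp
  obtain ⟨⟨a, ha⟩, htwo⟩ := exists_cyclic_aut F.T S.N hNT (fun _ => Iff.rfl) hcardN (by
    intro x hx hx1 y hy hy1
    obtain ⟨w, rfl⟩ := (S.sq_eq_one x).1 hx
    obtain ⟨w', rfl⟩ := (S.sq_eq_one y).1 hy
    obtain ⟨i, hi⟩ := cY_trans w w' (fun h => hx1 (by rw [h, S.map_zero]))
      (fun h => hy1 (by rw [h, S.map_zero]))
    obtain ⟨g, hg, hga⟩ := F.cov (cY ^ (i : ℕ))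
    exact ⟨g, F.norm hg, by rw [hga, hi]⟩)
  have hSuz := suz_of_cyclic F.pgroup hnc a htwo ha
  have hcen : ∀ x : F.T, x ∈ center F.T ↔ (x : G) ∈ S.N := fun x => by
    rw [hSuz.mem_center]
    exact ⟨fun h => congrArg Subtype.val h, fun h => Subtype.ext h⟩
  rcases hSuz.dichotomy with hinj | ⟨hcard3, hsemi⟩
  · -- squaring is injective modulo the centre
    obtain ⟨u, v, huv⟩ := hnc
    apply huv
    have hcu : u ∉ center F.T := fun h => huv (mem_center_iff.1 h v).symm
    have hcv : v ∉ center F.T := fun h => huv (mem_center_iff.1 h u)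
    obtain ⟨w1, hw1⟩ := (S.sq_eq_one _).1 ((hcen (u * u)).1 (hSuz.sq_mem u))
    obtain ⟨w2, hw2⟩ := (S.sq_eq_one _).1 ((hcen (v * v)).1 (hSuz.sq_mem v))
    obtain ⟨w3, hw3⟩ := (S.sq_eq_one _).1 ((hcen (u * v * (u * v))).1 (hSuz.sq_mem (u * v)))
    have hsquare : ∀ {b : F.T} {w : Cube}, S.ι w = ((b * b : F.T) : G) → w = 0 → b ∈ center F.T :=
      fun {b w} hb h0 => (hSuz.mem_center b).2 (Subtype.ext (by
        rw [h0, S.map_zero] at hb
        exact hb.symm))
    have h12 : w1 ≠ w2 := fun h => huv (by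
      have h1 := hinj u v (Subtype.ext (by rw [← hw1, ← hw2, h]))
      have h2 := mem_center_iff.1 h1 u
      rw [mul_inv_cancel_left] at h2
      calc u * v = u * (u⁻¹ * v * u) := by rw [← h2]
        _ = v * u := by group)
    obtain ⟨e, he1, he2, he⟩ := exists_fixing w1 w2 (fun h => hcu (hsquare hw1 h))
      (fun h => hcv (hsquare hw2 h)) h12
    obtain ⟨g, hg, hga⟩ := F.cov e
    let cj : F.T → F.T := fun b => ⟨g * b * g⁻¹, F.conj_mem hg b.2⟩
    have hcj : ∀ (b : F.T) (w : Cube), S.ι w = ((b * b : F.T) : G) →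
        ((cj b * cj b : F.T) : G) = S.ι (e w) := fun b w hb => by
      rw [← hga w, hb]
      show g * b * g⁻¹ * (g * b * g⁻¹) = g * ((b : G) * b) * g⁻¹
      group
    have h1 := hinj u (cj u) (Subtype.ext (by rw [hcj u w1 hw1, he1, hw1]))
    have h2 := hinj v (cj v) (Subtype.ext (by rw [hcj v w2 hw2, he2, hw2]))
    have h3 : (u * v)⁻¹ * cj (u * v) ∈ center F.T := by
      have e1 : cj (u * v) = cj u * cj v := Subtype.ext (by
        show g * ((u : G) * v) * g⁻¹ = g * u * g⁻¹ * (g * v * g⁻¹)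
        group)
      rw [e1, show (u * v)⁻¹ * (cj u * cj v) = v⁻¹ * (u⁻¹ * cj u) * cj v by group,
        mul_assoc, ← mem_center_iff.1 h1 (cj v), ← mul_assoc]
      exact mul_mem h2 h1
    have hew : e w3 = w3 := S.inj (by
      rw [← hcj (u * v) w3 hw3, hw3]
      exact congrArg Subtype.val (hSuz.sq_eq_of_mem h3).symm)
    rcases he w3 hew with h0 | h0 | h0 | h0
    · have hc := mem_center_iff.1 (hsquare hw3 h0) u
      rw [mul_assoc u v u] at hc
      exact mul_left_cancel hc
    · refine (hcv ?_).elim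
      have h4 := hinj u (u * v) (Subtype.ext (by rw [← hw1, ← hw3, h0]))
      rwa [inv_mul_cancel_left] at h4
    · refine (hcu ?_).elim
      have h4 := hinj v (u * v) (Subtype.ext (by rw [← hw2, ← hw3, h0]))
      rw [← mul_assoc] at h4
      have h5 := (inferInstance : (center F.T).Normal).conj_mem _ h4 v
      rwa [show v * (v⁻¹ * u * v) * v⁻¹ = u by group] at h5
    · have h4 := hSuz.mul_sq u v
      have h5 : (u * v * (u * v) : F.T) = u * u * (v * v) := Subtype.ext (by
        rw [← hw3, h0, S.map_add, hw1, hw2]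
        rfl)
      rw [h5, left_eq_mul, commutatorElement_eq_one_iff_mul_comm] at h4
      exact h4.symm
  · -- semiregular case
    obtain ⟨R, -, -, hRG, hodd, -, -, -, -, -, -, hRs, hdec⟩ :=
      F.exists_lift (s := 1) (τ := 1) (r := 1) odd_one (one_pow 1) (one_mul 1) (j := 1)
        (by rw [one_mul, one_mul, one_pow])
    have hRC : R ≤ S.C := fun r hr => by
      obtain ⟨i, hi⟩ := hRs r hr
      rw [hi.mem_C_iff, one_pow]
    by_cases htriv : ∀ r ∈ R, ∀ x ∈ F.T, x⁻¹ * (r * x * r⁻¹) ∈ S.N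
    · letI : CommGroup (F.T ⧸ center F.T) :=
        { (inferInstance : Group (F.T ⧸ center F.T)) with
          mul_comm := fun a b => by
            obtain ⟨a, rfl⟩ := QuotientGroup.mk_surjective a
            obtain ⟨b, rfl⟩ := QuotientGroup.mk_surjective b
            rw [← QuotientGroup.mk_mul, ← QuotientGroup.mk_mul, QuotientGroup.eq]
            convert hSuz.comm_mem b⁻¹ a⁻¹ using 1
            rw [commutatorElement_def]
            group }
      letI : Module (ZMod 2) (Additive (F.T ⧸ center F.T)) := AddCommGroup.zmodModule fun a => by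
        obtain ⟨a, rfl⟩ := Additive.ofMul.surjective a
        obtain ⟨a, rfl⟩ := QuotientGroup.mk_surjective a
        rw [two_nsmul, ← ofMul_mul, ← QuotientGroup.mk_mul,
          (QuotientGroup.eq_one_iff _).2 (hSuz.sq_mem a)]
        rfl
      refine semi_false F (V := Additive (F.T ⧸ center F.T)) ?_
        (fun a => Additive.ofMul (a : F.T ⧸ center F.T))
        (fun v => QuotientGroup.mk_surjective (Additive.toMul v)) (fun a b => rfl) (fun a => ?_) hSuz ?_
      · have hc : Nat.card (center F.T) = 7 + 1 := by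
          rw [← hcardN]
          refine Nat.card_congr
            { toFun := fun z => ⟨((z : F.T) : G), (hcen _).1 z.2⟩
              invFun := fun n => ⟨⟨n, hNT n.2⟩, (hcen _).2 n.2⟩
              left_inv := fun z => rfl
              right_inv := fun n => rfl }
        have h := Subgroup.card_eq_card_quotient_mul_card_subgroup (center F.T)
        rw [hcard3, hc] at h
        rw [Nat.card_congr Additive.toMul]
        omega
      · rw [ofMul_eq_zero, QuotientGroup.eq_one_iff, hcen]
        rfl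
      · intro c hc hcC x hx
        obtain ⟨u, hu, r, hr, rfl⟩ := hdec c hc 0 (by simpa using Setup.acts_one_of_mem hcC)
        have hy : r * x * r⁻¹ ∈ F.T := F.conj_mem (hRG hr) hx
        have h1 : ⁅u, r * x * r⁻¹⁆ ∈ S.N :=
          (hcen ⁅(⟨u, hu⟩ : F.T), ⟨r * x * r⁻¹, hy⟩⁆).1 (hSuz.comm_mem _ _)
        have h2 := mul_mem (S.N_normal.conj_mem _ h1 x⁻¹) (htriv r hr x hx)
        convert h2 using 1
        rw [commutatorElement_def]
        group
    · -- some element of the complement moves a coset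
      push Not at htriv
      obtain ⟨r, hr, x, hx, hrx⟩ := htriv
      let G3 : Subgroup G := F.G1 ⊓ normalizer (R : Set G)
      let F3 : Frame S :=
        { G1 := G3
          T := F.T ⊓ G3
          le := inf_le_right
          norm := fun g hg => by
            refine mem_normalizer_iff.2 fun y => ⟨fun hy => ⟨F.conj_mem hg.1 hy.1,
              G3.mul_mem (G3.mul_mem hg hy.2) (G3.inv_mem hg)⟩, fun hy => ?_⟩
            refine ⟨(mem_normalizer_iff.1 (F.norm hg.1) y).2 hy.1, ?_⟩
            have := G3.mul_mem (G3.mul_mem (G3.inv_mem hg) hy.2) hg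
            rwa [show g⁻¹ * (g * y * g⁻¹) * g = y by group] at this
          pgroup := F.pgroup.to_le inf_le_left
          le_C := inf_le_left.trans F.le_C
          ι_mem := fun w => ⟨F.ι_mem w, F.le (F.ι_mem w), centralizer_le_normalizer _
            (mem_centralizer_iff.2 fun r hr => (S.mem_C.1 (hRC hr) w).symm)⟩
          mem := fun c hc hcC i hi => ⟨F.mem c hc.1 hcC i hi, hc⟩
          cov := fun e => by
            obtain ⟨g, hg, hga⟩ := F.cov e
            have hB : MulAut.conj g • R ≤ R ⊔ F.T := by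
              intro y hy
              rw [Coprime.mem_conj_smul] at hy
              have hyC : y ∈ S.C := by
                have h1 := (hga.mul (Setup.acts_one_of_mem (hRC hy))).mul hga.inv
                rw [mul_one, mul_inv_cancel, show g * (g⁻¹ * y * g) * g⁻¹ = y by group] at h1
                exact h1.mem_C_iff.2 rfl
              have hyG : y ∈ F.G1 := by
                have := mul_mem (mul_mem hg (hRG hy)) (inv_mem hg)
                rwa [show g * (g⁻¹ * y * g) * g⁻¹ = y by group] at this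
              obtain ⟨a, ha, b, hb, rfl⟩ := hdec y hyG 0 (by simpa using Setup.acts_one_of_mem hyC)
              exact mul_mem (mem_sup_right ha) (mem_sup_left hb)
            obtain ⟨n, hn⟩ := IsPGroup.iff_card.1 F.pgroup
            haveI := F.pgroup.isNilpotent
            obtain ⟨v, hv, hvR⟩ := Coprime.exists_conj_eq_of_coprime
              (fun y hy => F.norm (hRG hy))
              (by rw [hn]; exact (Nat.Coprime.pow_left n (Nat.coprime_two_left.2 hodd)).symm)
              (Or.inr inferInstance) hB (Coprime.card_conj_smul _ _)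
            refine ⟨v⁻¹ * g, ⟨F.G1.mul_mem (F.G1.inv_mem (F.le hv)) hg, ?_⟩,
              hga.mul_left (inv_mem (F.le_C hv))⟩
            refine mem_normalizer_iff.2 fun y => ?_
            have h1 : ∀ y, v⁻¹ * y * v ∈ R ↔ g⁻¹ * y * g ∈ R := fun y => by
              rw [← Coprime.mem_conj_smul, ← Coprime.mem_conj_smul, hvR]
            have h2 := h1 (g * y * g⁻¹)
            rw [show g⁻¹ * (g * y * g⁻¹) * g = y by group] at h2
            rw [← h2, show v⁻¹ * g * y * (v⁻¹ * g)⁻¹ = v⁻¹ * (g * y * g⁻¹) * v by group] }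
      have hT3 : ∀ y ∈ F3.T, y ∈ S.N := by
        intro y hy
        by_contra hyN
        have hyc := F.commute_of_normalizes hRG hodd hy.1 hy.2.2 r hr
        set k := F.T.normalizerMonoidHom ⟨r, F.norm (hRG hr)⟩ with hk
        have hkodd : Odd (orderOf k) := by
          refine Odd.of_dvd_nat hodd ((orderOf_map_dvd _ _).trans ?_)
          rw [Subgroup.orderOf_mk]
          exact R.orderOf_dvd_natCard hr
        refine hrx ((hcen _).1 (hsemi k hkodd (fun z hz => Subtype.ext ?_) ⟨y, hy.1⟩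
          (fun h => hyN ((hcen _).1 h)) ((hcen _).2 ?_) ⟨x, hx⟩))
        · show r * (z : G) * r⁻¹ = z
          obtain ⟨w, hw⟩ := (S.sq_eq_one _).1 ((hcen z).1 hz)
          rw [← hw, ← S.mem_C.1 (hRC hr) w, mul_inv_cancel_right]
        · show y⁻¹ * (r * y * r⁻¹) ∈ S.N
          rw [← hyc, mul_inv_cancel_right, inv_mul_cancel]
          exact one_mem _
      refine abelian_false F3 fun y hy y' hy' => ?_
      obtain ⟨w, rfl⟩ := (S.sq_eq_one y).1 (hT3 y hy)
      exact S.mem_C.1 (F.le_C hy'.1) w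

end Cfsg.Agent.Lib.PrimeInvol7
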