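import Cfsg.Agent.S4037
import Cfsg.Agent.S4179
import Cfsg.Agent.Lib.ClassSizes.NonAdjacent
import Cfsg.Agent.Lib.PrimeInvol7.Pair
import Cfsg.Agent.Lib.PrimeInvol7.Three
import Cfsg.Agent.Lib.PrimeInvol7.Perfect

/-!
# Non-solvable groups with one class of `p ^ k` involutions have `k` even and `p ^ k ≠ 9`
-/

set_option autoImplicit false
set_option linter.style.haveILetI false
set_option linter.unusedSectionVars false

namespace Cfsg.Agent.Lib.PrimeInvol7

open Subgroup
open scoped commutatorElement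

universe u v

theorem commutator_top_of_eq {G : Type*} [Group G] {K : Subgroup G} (hK : ⁅K, K⁆ = K) :
    commutator K = ⊤ := by
  apply Subgroup.map_injective K.subtype_injective
  rw [Subgroup.map_subtype_commutator, hK, ← MonoidHom.range_eq_map, Subgroup.range_subtype]

variable {G : Type u} [Group G] [Finite G]

/-- The perfect residual of a non-solvable group with one class of involutions contains all of
them. -/
theorem exists_perfect_invol (hns : ¬ Group.IsSolvable G)
    (hcls : ∀ x y : G, orderOf x = 2 → orderOf y = 2 → ∃ g : G, g * x * g⁻¹ = y) :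
    ∃ L : Subgroup G, L.Normal ∧ commutator L = ⊤ ∧ ∀ x : G, orderOf x = 2 → x ∈ L := by
  obtain ⟨L, hLn, hLL, hLne⟩ := ClassSizes.NonAdjacent.exists_perfect_normal hns
  have hperf := commutator_top_of_eq hLL
  haveI : Fact (Nat.Prime 2) := ⟨Nat.prime_two⟩
  have heven : 2 ∣ Nat.card L := by
    rw [← even_iff_two_dvd]
    by_contra h
    have hsol := Cfsg.Agent.S0205.result (G := L) (Nat.not_even_iff_odd.1 h)
    refine hLne ((eq_bot_iff).2 fun x hx => mem_bot.2 ?_)
    exact congrArg Subtype.val (eq_one_of_perfect hperf hsol (MonoidHom.id L) ⟨x, hx⟩)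
  obtain ⟨t, ht⟩ := exists_prime_orderOf_dvd_card' 2 heven
  refine ⟨L, hLn, hperf, fun x hx => ?_⟩
  obtain ⟨g, rfl⟩ := hcls t x ((Subgroup.orderOf_coe t).trans ht) hx
  exact hLn.conj_mem _ t.2 g

/-- A non-trivial solvable normal subgroup contains an elementary abelian non-trivial one. -/
theorem exists_elementary (N : Subgroup G) [N.Normal] (hN : N ≠ ⊥) (hsol : Group.IsSolvable N) :
    ∃ M : Subgroup G, M.Normal ∧ M ≤ N ∧ M ≠ ⊥ ∧ (∀ x ∈ M, ∀ y ∈ M, x * y = y * x) ∧
      ∃ r : ℕ, r.Prime ∧ ∀ x ∈ M, x ^ r = 1 := by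
  obtain ⟨M, hM⟩ := (Set.toFinite {M : Subgroup G | M.Normal ∧ M ≠ ⊥ ∧ M ≤ N}).exists_minimal
    ⟨N, inferInstance, hN, le_rfl⟩
  obtain ⟨⟨hMn, hMne, hMN⟩, hmin⟩ := hM
  haveI := hMn
  have hsolM : Group.IsSolvable M :=
    Group.isSolvable_of_isSolvable_injective (f := Subgroup.inclusion hMN) (Subgroup.inclusion_injective hMN)
  have hab : ⁅M, M⁆ = ⊥ := by
    by_contra h
    have hle : ⁅M, M⁆ ≤ M := Subgroup.commutator_le_left M M
    have heq : ⁅M, M⁆ = M :=
      le_antisymm hle (hmin ⟨inferInstance, h, hle.trans hMN⟩ hle)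
    refine hMne ((eq_bot_iff).2 fun x hx => mem_bot.2 ?_)
    exact congrArg Subtype.val
      (eq_one_of_perfect (commutator_top_of_eq heq) hsolM (MonoidHom.id M) ⟨x, hx⟩)
  have hcomm : ∀ x ∈ M, ∀ y ∈ M, x * y = y * x := fun x hx y hy =>
    commutatorElement_eq_one_iff_mul_comm.1
      (mem_bot.1 (hab ▸ Subgroup.commutator_mem_commutator hx hy))
  have hcard : Nat.card M ≠ 1 := fun h => hMne (Subgroup.card_eq_one.1 h)
  obtain ⟨r, hr, hrd⟩ := Nat.exists_prime_and_dvd hcard
  haveI : Fact r.Prime := ⟨hr⟩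
  obtain ⟨a, ha⟩ := exists_prime_orderOf_dvd_card' r hrd
  let A : Subgroup G :=
    { carrier := {x | x ∈ M ∧ x ^ r = 1}
      one_mem' := ⟨one_mem _, one_pow _⟩
      mul_mem' := fun {x y} hx hy => ⟨mul_mem hx.1 hy.1, by
        rw [(show Commute x y from hcomm x hx.1 y hy.1).mul_pow, hx.2, hy.2, mul_one]⟩
      inv_mem' := fun {x} hx => ⟨inv_mem hx.1, by rw [inv_pow, hx.2, inv_one]⟩ }
  haveI hAn : A.Normal := ⟨fun x hx g => ⟨hMn.conj_mem x hx.1 g, by
    rw [conj_pow, hx.2, mul_one, mul_inv_cancel]⟩⟩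
  have hAne : A ≠ ⊥ := fun h => by
    have hmem : (a : G) ∈ A := ⟨a.2, by
      rw [← Subgroup.coe_pow, ← ha, pow_orderOf_eq_one, OneMemClass.coe_one]⟩
    rw [h, mem_bot] at hmem
    rw [← Subgroup.orderOf_coe, hmem, orderOf_one] at ha
    exact hr.one_lt.ne ha
  have hAM : A ≤ M := fun x hx => hx.1
  have hMA : M ≤ A := hmin ⟨hAn, hAne, hAM.trans hMN⟩ hAM
  exact ⟨M, hMn, hMN, hMne, hcomm, r, hr, fun x hx => (hMA hx).2⟩

/-! ### The case without normal subgroups of odd order -/

variable {W : Type v} [AddCommGroup W] [Module (ZMod 2) W]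

theorem Setup.exists_acts [Finite W] (S : Setup G W) (g : G) :
    ∃ e : W ≃ₗ[ZMod 2] W, S.Acts g e := by
  have h : ∀ w, ∃ w', S.ι w' = g * S.ι w * g⁻¹ := fun w => (S.sq_eq_one _).1 (by
    calc g * S.ι w * g⁻¹ * (g * S.ι w * g⁻¹) = g * (S.ι w * S.ι w) * g⁻¹ := by group
      _ = 1 := by rw [S.ι_sq, mul_one, mul_inv_cancel])
  choose f hf using h
  have hadd : ∀ a b, f (a + b) = f a + f b := fun a b => S.inj (by
    rw [hf, S.map_add, S.map_add, hf, hf]
    group)
  have hinj : Function.Injective f := fun a b hab => S.inj (by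
    have := congrArg S.ι hab
    rw [hf, hf] at this
    exact mul_left_cancel (mul_right_cancel this))
  let φ : W →ₗ[ZMod 2] W := (AddMonoidHom.mk' f hadd).toZModLinearMap 2
  exact ⟨LinearEquiv.ofBijective φ ⟨hinj, Finite.surjective_of_injective hinj⟩,
    fun w => (hf w).symm⟩

theorem exists_setup [Finite W] (N : Subgroup G) (hN : ∀ x : G, x ∈ N ↔ x * x = 1)
    (hcard : Nat.card W = Nat.card N) : Nonempty (Setup G W) := by
  classical
  letI : CommGroup N :=
    { (inferInstance : Group N) with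
      mul_comm := fun a b => by
        have h1 : ∀ c : N, c⁻¹ = c := fun c =>
          inv_eq_of_mul_eq_one_right (Subtype.ext ((hN _).1 c.2))
        calc a * b = (a * b)⁻¹ := (h1 _).symm
          _ = b * a := by rw [mul_inv_rev, h1, h1] }
  letI : Module (ZMod 2) (Additive N) := AddCommGroup.zmodModule fun a => by
    rw [two_nsmul]
    exact congrArg Additive.ofMul (Subtype.ext ((hN _).1 a.toMul.2))
  have : Module.Finite (ZMod 2) W := Module.Finite.of_finite
  have : Module.Finite (ZMod 2) (Additive N) := Module.Finite.of_finite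
  have hfin : Module.finrank (ZMod 2) W = Module.finrank (ZMod 2) (Additive N) := by
    have h1 := Module.natCard_eq_pow_finrank (K := ZMod 2) (V := W)
    have h2 := Module.natCard_eq_pow_finrank (K := ZMod 2) (V := Additive N)
    rw [Nat.card_zmod] at h1 h2
    rw [Nat.card_congr Additive.toMul, ← hcard, h1] at h2
    exact Nat.pow_right_injective le_rfl h2
  obtain ⟨e⟩ := FiniteDimensional.nonempty_linearEquiv_of_finrank_eq hfin
  exact ⟨{ ι := fun w => ((e w).toMul : G)
           map_add := fun a b => by rw [map_add]; rfl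
           inj := fun a b h => e.injective (Additive.toMul.injective (Subtype.ext h))
           sq_eq_one := fun x => ⟨fun h => ⟨e.symm (Additive.ofMul ⟨x, (hN x).2 h⟩), by
              rw [e.apply_symm_apply]; rfl⟩, by
            rintro ⟨w, rfl⟩
            exact (hN _).1 (e w).toMul.2⟩ }⟩

theorem setup_false [Finite W] (S : Setup G W) (m : ℕ) (hW : Module.finrank (ZMod 2) W = m)
    (hm : m.Prime) (hp : (2 ^ m - 1).Prime) (hp2 : 3 ≤ 2 ^ m - 1) (hns : ¬ Group.IsSolvable G)
    (hcls : ∀ x y : G, orderOf x = 2 → orderOf y = 2 → ∃ g : G, g * x * g⁻¹ = y)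
    (hbig : Frame S → ¬ Group.IsSolvable (W ≃ₗ[ZMod 2] W) → False) : False := by
  classical
  choose act hact using S.exists_acts
  let φ : G →* (W ≃ₗ[ZMod 2] W) :=
    { toFun := act
      map_one' := (hact 1).unique Setup.Acts.one
      map_mul' := fun g h => (hact (g * h)).unique ((hact g).mul (hact h)) }
  have hφ : ∀ g, S.Acts g (φ g) := hact
  have hord : ∀ x : G, orderOf x = 2 ↔ x * x = 1 ∧ x ≠ 1 := fun x => by
    rw [orderOf_eq_prime_iff, pow_two]
  have hιo : ∀ w, w ≠ 0 → orderOf (S.ι w) = 2 := fun w hw =>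
    (hord _).2 ⟨S.ι_sq w, fun h => hw (S.eq_one_iff.1 h)⟩
  have htrans : ∀ v w : W, v ≠ 0 → w ≠ 0 → ∃ h ∈ φ.range, h v = w := by
    intro v w hv hw
    obtain ⟨g, hg⟩ := hcls _ _ (hιo v hv) (hιo w hw)
    exact ⟨φ g, ⟨g, rfl⟩, S.inj ((hφ g v).symm.trans hg)⟩
  by_cases hsol : Group.IsSolvable φ.range
  · -- the involutions are central in the perfect residual
    obtain ⟨L, hLn, hperf, hLinv⟩ := exists_perfect_invol hns hcls
    haveI : Fact (2 ^ m - 1).Prime := ⟨hp⟩
    have hker : ∀ l ∈ L, l ∈ S.C := by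
      intro l hl
      rw [(hφ l).mem_C_iff]
      exact congrArg Subtype.val
        (eq_one_of_perfect hperf hsol (φ.rangeRestrict.comp L.subtype) ⟨l, hl⟩)
    refine central_false L hperf S.N (fun _ => Iff.rfl) (fun x hx => ?_) (fun n hn l hl => ?_)
      (p := 2 ^ m - 1) ?_ (fun x hx hx1 y hy hy1 => ?_)
    · by_cases h1 : x = 1
      · rw [h1]; exact one_mem _
      · exact hLinv x ((hord x).2 ⟨hx, h1⟩)
    · obtain ⟨w, rfl⟩ := (S.sq_eq_one n).1 hn
      exact S.mem_C.1 (hker l hl) w
    · let e : W → S.N := fun w => ⟨S.ι w, S.ι_sq w⟩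
      have he : Function.Bijective e := ⟨fun a b h => S.inj (congrArg Subtype.val h), fun n => by
        obtain ⟨w, hw⟩ := (S.sq_eq_one n).1 n.2
        exact ⟨w, Subtype.ext hw⟩⟩
      rw [← Nat.card_eq_of_bijective e he, Module.natCard_eq_pow_finrank (K := ZMod 2), Nat.card_zmod,
        hW]
      omega
    · obtain ⟨g, hg⟩ := hcls x y ((hord x).2 ⟨hx, hx1⟩) ((hord y).2 ⟨hy, hy1⟩)
      exact isConj_iff.2 ⟨g, hg⟩
  · -- all linear maps are induced
    rcases (Cfsg.Agent.S4179.result m hW hp φ.range).1 htrans with ⟨hcyc, -⟩ | h | htop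
    · exact hsol (Group.isSolvable_of_comm fun a b => hcyc.isMulCommutative.is_comm.comm a b)
    · obtain ⟨hcardH, C, hCH, hCn, hCc, hCcard⟩ := h
      haveI := hCn
      haveI : Group.IsSolvable (C.subgroupOf φ.range) := by
        haveI := hCc
        haveI : IsCyclic (C.subgroupOf φ.range) :=
          isCyclic_of_surjective (subgroupOfEquivOfLe hCH).symm.toMonoidHom
            (subgroupOfEquivOfLe hCH).symm.surjective
        exact Group.isSolvable_of_comm fun a b =>
          (IsCyclic.isMulCommutative (α := ↥(C.subgroupOf φ.range))).is_comm.comm a b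
      haveI : Group.IsSolvable (φ.range ⧸ C.subgroupOf φ.range) := by
        haveI : Fact m.Prime := ⟨hm⟩
        have hc : Nat.card (φ.range ⧸ C.subgroupOf φ.range) = m := by
          have h := Subgroup.card_eq_card_quotient_mul_card_subgroup (C.subgroupOf φ.range)
          rw [hcardH, Nat.card_congr (subgroupOfEquivOfLe hCH).toEquiv, hCcard] at h
          exact (Nat.eq_of_mul_eq_mul_right (by omega) h).symm
        haveI := isCyclic_of_prime_card hc
        exact Group.isSolvable_of_comm fun a b =>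
          (IsCyclic.isMulCommutative (α := φ.range ⧸ C.subgroupOf φ.range)).is_comm.comm a b
      exact hsol (Spectrum.isSolvable_iff_of_normal (C.subgroupOf φ.range))
    · haveI : Fact (Nat.Prime 2) := ⟨Nat.prime_two⟩
      haveI hCn : S.C.Normal := ⟨fun c hc g => by
        rw [((hφ g).mul ((Setup.acts_one_of_mem hc))).mul (hφ g).inv |>.mem_C_iff, mul_one,
          mul_inv_cancel]⟩
      obtain ⟨P⟩ : Nonempty (Sylow 2 S.C) := inferInstance
      set T := (P : Subgroup S.C).map S.C.subtype with hT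
      have hmem : ∀ c ∈ normalizer (T : Set G), c ∈ S.C → ∀ i : ℕ, c ^ 2 ^ i = 1 → c ∈ T := by
        intro c hc hcC i hi
        have hp' : IsPGroup 2 (zpowers (⟨c, hcC⟩ : S.C)) := by
          refine IsPGroup.iff_card.2 ?_
          rw [Nat.card_zpowers, Subgroup.orderOf_mk]
          obtain ⟨e, -, he⟩ := (Nat.dvd_prime_pow Nat.prime_two).1 (orderOf_dvd_of_pow_eq_one hi)
          exact ⟨e, he⟩
        have hcn : (⟨c, hcC⟩ : S.C) ∈ normalizer ((P : Subgroup S.C) : Set S.C) := by
          refine mem_normalizer_iff.2 fun x => ?_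
          have h1 := mem_normalizer_iff.1 hc (x : G)
          have h2 : ∀ y : S.C, (y : G) ∈ T ↔ y ∈ (P : Subgroup S.C) := fun y =>
            Subgroup.mem_map_iff_mem S.C.subtype_injective
          rw [h2 x] at h1
          rw [h1, ← h2]
          rfl
        have h1 := P.is_maximal' (P.isPGroup'.to_sup_of_normal_left' hp' (zpowers_le.2 hcn))
          le_sup_left
        exact ⟨⟨c, hcC⟩, h1.le (mem_sup_right (mem_zpowers _)), rfl⟩
      have hTC : T ≤ S.C := map_subtype_le _
      refine hbig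
        { G1 := normalizer (T : Set G)
          T := T
          le := le_normalizer
          norm := le_rfl
          pgroup := P.isPGroup'.map S.C.subtype
          le_C := hTC
          ι_mem := fun w => ?_
          mem := hmem
          cov := fun e => ?_ } fun hs => hsol ?_
      · refine hmem _ (mem_normalizer_iff.2 fun x => ?_) (S.ι_mem_C w) 1 ?_
        · have hh : ∀ y ∈ S.C, S.ι w * y * (S.ι w)⁻¹ = y := fun y hy => by
            rw [S.mem_C.1 hy w, mul_inv_cancel_right]
          refine ⟨fun hx => by rwa [hh x (hTC hx)], fun hx => ?_⟩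
          have hxC : x ∈ S.C := by
            have := hCn.conj_mem _ (hTC hx) (S.ι w)⁻¹
            rwa [inv_inv, show (S.ι w)⁻¹ * (S.ι w * x * (S.ι w)⁻¹) * S.ι w = x by group] at this
          rwa [hh x hxC] at hx
        · rw [pow_one, pow_two]
          exact S.ι_sq w
      · have he : e ∈ φ.range := htop ▸ mem_top e
        obtain ⟨g, rfl⟩ := he
        have hg : g ∈ normalizer (T : Set G) ⊔ S.C := by
          rw [hT, Sylow.normalizer_sup_eq_top P]; exact mem_top g
        obtain ⟨h, hh, c, hc, rfl⟩ := Subgroup.mem_sup_of_normal_right.1 hg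
        refine ⟨h, hh, ?_⟩
        have := (hφ (h * c)).mul (Setup.acts_one_of_mem (inv_mem hc))
        rwa [mul_inv_cancel_right, mul_one] at this
      · haveI := hs
        exact Group.isSolvable_of_isSolvable_injective (f := φ.range.subtype) φ.range.subtype_injective

theorem odd_geom {p : ℕ} (hp : Odd p) :
    ∀ i : ℕ, ∃ s : ℤ, Odd s ∧ (p : ℤ) ^ (2 * i + 1) + 1 = (p + 1) * s
  | 0 => ⟨1, odd_one, by ring⟩
  | i + 1 => by
    obtain ⟨s, hs, h⟩ := odd_geom hp i
    obtain ⟨a, ha⟩ := hp
    refine ⟨(p : ℤ) ^ 2 * s - (p - 1), ?_, ?_⟩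
    · have h1 : Odd ((p : ℤ) ^ 2 * s) := by
        refine (Odd.pow ?_).mul hs
        exact ⟨a, by exact_mod_cast ha⟩
      refine h1.sub_even ⟨a, ?_⟩
      have h' : (p : ℤ) = 2 * a + 1 := by exact_mod_cast ha
      linear_combination h'
    · linear_combination (p : ℤ) ^ 2 * h

/-- No non-solvable group has its `p ^ k` involutions (`k` odd) forming, with `1`, a subgroup. -/
theorem subgroup_false {G : Type} [Group G] [Finite G] {p k : ℕ} (hp : p.Prime) (hp2 : p ≠ 2)
    (hk : Odd k) (hns : ¬ Group.IsSolvable G) (N : Subgroup G) (hN : ∀ x : G, x ∈ N ↔ x * x = 1)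
    (hcard : Nat.card N = p ^ k + 1)
    (hcls : ∀ x y : G, orderOf x = 2 → orderOf y = 2 → ∃ g : G, g * x * g⁻¹ = y) : False := by
  haveI : Fact (Nat.Prime 2) := ⟨Nat.prime_two⟩
  have hpo : Odd p := hp.odd_of_ne_two hp2
  have hp3 : 3 ≤ p := by
    have := hp.two_le
    omega
  obtain ⟨m, hm⟩ := IsPGroup.iff_card.1 (show IsPGroup 2 N from fun x =>
    ⟨1, Subtype.ext (by rw [pow_one, pow_two]; exact (hN _).1 x.2)⟩)
  obtain ⟨i, rfl⟩ := hk
  -- `k = 1`
  have hk1 : p ^ (2 * i + 1) = p := by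
    obtain ⟨s, hs, hse⟩ := odd_geom hpo i
    have h1 : ((p ^ (2 * i + 1) + 1 : ℕ) : ℤ) = (p + 1 : ℕ) * s := by push_cast; exact hse
    rw [← hcard, hm] at h1
    have h2 : s.natAbs ∣ 2 ^ m := by
      have h := congrArg Int.natAbs h1
      rw [Int.natAbs_mul, Int.natAbs_natCast, Int.natAbs_natCast] at h
      exact h ▸ dvd_mul_left _ _
    have h3 : s.natAbs = 1 := Nat.eq_one_of_dvd_coprimes
      (Nat.Coprime.pow_left m (Nat.coprime_two_left.2 (Int.natAbs_odd.2 hs))) h2 dvd_rfl
    rcases Int.natAbs_eq s with h | h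
    · rw [h3] at h
      rw [h, Nat.cast_one, mul_one] at hse
      have : ((p ^ (2 * i + 1) : ℕ) : ℤ) = (p : ℤ) := by push_cast; linarith
      exact_mod_cast this
    · rw [h3] at h
      rw [h] at hse
      have h4 : (0 : ℤ) ≤ (p : ℤ) ^ (2 * i + 1) := by positivity
      push_cast at hse
      linarith
  rw [hm, hk1] at hcard
  have hpm : 2 ^ m - 1 = p := by omega
  have hm1 : m ≠ 1 := by rintro rfl; omega
  obtain ⟨-, hmp⟩ := Nat.prime_of_pow_sub_one_prime hm1 (hpm ▸ hp)
  have hmain : ∀ {W : Type} [AddCommGroup W] [Module (ZMod 2) W] [Finite W],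
      Module.finrank (ZMod 2) W = m →
      (∀ S : Setup G W, Frame S → ¬ Group.IsSolvable (W ≃ₗ[ZMod 2] W) → False) → False := by
    intro W _ _ _ hW hbig
    have : Module.Finite (ZMod 2) W := Module.Finite.of_finite
    obtain ⟨S⟩ := exists_setup (W := W) N hN (by
      rw [Module.natCard_eq_pow_finrank (K := ZMod 2), Nat.card_zmod, hW, hm])
    exact setup_false S m hW hmp (hpm ▸ hp) (hpm ▸ hp3) hns hcls (hbig S)
  by_cases h2 : m = 2
  · refine hmain (W := Fin 2 → ZMod 2) (by rw [Module.finrank_fin_fun, h2]) fun S _ h => h ?_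
    have hc := natCard_aut_two (r := 2) (A := Fin 2 → ZMod 2) (by rw [Module.finrank_fin_fun])
    norm_num at hc
    haveI : Finite ((Fin 2 → ZMod 2) ≃ₗ[ZMod 2] (Fin 2 → ZMod 2)) :=
      Nat.finite_of_card_ne_zero (by omega)
    exact Spectrum.isSolvable_of_card_lt_sixty _ hc (by norm_num)
  by_cases h3 : m = 3
  · exact hmain (W := Cube) (by simp [h3]) fun S F _ => three_false F
  obtain ⟨j, hj⟩ : ∃ j, m = 2 * j + 3 := by
    obtain ⟨a, ha⟩ := hmp.odd_of_ne_two h2
    have := hmp.two_le
    exact ⟨a - 1, by omega⟩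
  refine hmain (W := PairSpace j) ?_ fun S F _ => pair_false (by omega) F
  simp [PairSpace, Module.finrank_pi_fintype]
  omega

/-! ### The induction -/

theorem isConj_class {G : Type*} [Group G] {t : G} (ht : orderOf t = 2)
    (hcls : ∀ x y : G, orderOf x = 2 → orderOf y = 2 → ∃ g : G, g * x * g⁻¹ = y) :
    (ConjClasses.mk t).carrier = {x : G | orderOf x = 2} := by
  ext x
  rw [ConjClasses.mem_carrier_iff_mk_eq, ConjClasses.mk_eq_mk_iff_isConj, Set.mem_ofPred_eq]
  refine ⟨fun h => ?_, fun h => isConj_iff.2 (hcls x t h ht)⟩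
  obtain ⟨c, hc⟩ := isConj_iff.1 h
  rw [← ht, ← hc, ← MulAut.conj_apply, MulEquiv.orderOf_eq]

/-- The subgroup of an abelian normal subgroup inverted by an element. -/
def invertedBy {G : Type*} [Group G] (M : Subgroup G) (t : G)
    (hab : ∀ x ∈ M, ∀ y ∈ M, x * y = y * x) : Subgroup G where
  carrier := {n | n ∈ M ∧ t * n * t⁻¹ = n⁻¹}
  one_mem' := ⟨one_mem _, by simp⟩
  mul_mem' := fun {a b} ha hb => ⟨mul_mem ha.1 hb.1, by
    rw [show t * (a * b) * t⁻¹ = (t * a * t⁻¹) * (t * b * t⁻¹) by group, ha.2, hb.2, ← mul_inv_rev,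
      hab b hb.1 a ha.1]⟩
  inv_mem' := fun {a} ha => ⟨inv_mem ha.1, by
    rw [show t * a⁻¹ * t⁻¹ = (t * a * t⁻¹)⁻¹ by group, ha.2]⟩

theorem key : ∀ (n : ℕ) (G : Type) [Group G] [Finite G], Nat.card G = n →
    ∀ (p k : ℕ), p.Prime → p ≠ 2 → ¬ Group.IsSolvable G →
      Nat.card {x : G // orderOf x = 2} = p ^ k →
      (∀ x y : G, orderOf x = 2 → orderOf y = 2 → ∃ g : G, g * x * g⁻¹ = y) →
      Even k ∧ p ^ k ≠ 9 := by
  intro n
  induction n using Nat.strong_induction_on with
  | _ n ih =>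
  intro G _ _ hn p k hp hp2 hns hcard hcls
  classical
  haveI : Fact p.Prime := ⟨hp⟩
  haveI : Fact (Nat.Prime 2) := ⟨Nat.prime_two⟩
  obtain ⟨⟨t, ht⟩⟩ : Nonempty {x : G // orderOf x = 2} :=
    (Nat.card_ne_zero.1 (hcard ▸ pow_ne_zero k hp.ne_zero)).1
  have ht2 : t * t = 1 := by
    have h := pow_orderOf_eq_one t
    rwa [ht, pow_two] at h
  by_cases hO : ∃ O : Subgroup G, O.Normal ∧ O ≠ ⊥ ∧ Odd (Nat.card O)
  · obtain ⟨O, hOn, hOne, hOodd⟩ := hO
    obtain ⟨M, hMn, hMO, hMne, hab, r, hr, hexp⟩ :=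
      exists_elementary O hOne (Cfsg.Agent.S0205.result hOodd)
    haveI := hMn
    haveI : Fact r.Prime := ⟨hr⟩
    have hModd : Odd (Nat.card M) := hOodd.of_dvd_nat (Subgroup.card_dvd_of_le hMO)
    letI : CommGroup M :=
      { (inferInstance : Group M) with
        mul_comm := fun a b => Subtype.ext (hab a a.2 b b.2) }
    haveI : Group.IsSolvable M := Group.isSolvable_of_comm fun a b => mul_comm a b
    have hr2 : r ≠ 2 := by
      rintro rfl
      refine hMne ((eq_bot_iff).2 fun x hx => mem_bot.2 (orderOf_eq_one_iff.1 ?_))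
      have h1 : orderOf x ∣ Nat.card M := M.orderOf_dvd_natCard hx
      refine ((Nat.dvd_prime Nat.prime_two).1 (orderOf_dvd_of_pow_eq_one (hexp x hx))).resolve_right
        fun h => ?_
      rw [h] at h1
      exact Nat.not_even_iff_odd.2 hModd (even_iff_two_dvd.2 h1)
    set π := QuotientGroup.mk' M with hπ
    have hnsQ : ¬ Group.IsSolvable (G ⧸ M) := fun h =>
      hns (Spectrum.isSolvable_iff_of_normal M)
    have hnotM : ∀ x : G, orderOf x = 2 → x ∉ M := fun x hx hxM => by
      have h1 := M.orderOf_dvd_natCard hxM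
      rw [hx] at h1
      exact Nat.not_even_iff_odd.2 hModd (even_iff_two_dvd.2 h1)
    have hordQ : ∀ x : G, orderOf x = 2 → orderOf (π x) = 2 := fun x hx => by
      refine orderOf_eq_prime ?_ fun h => hnotM x hx ((QuotientGroup.eq_one_iff x).1 h)
      rw [← map_pow, ← hx, pow_orderOf_eq_one, map_one]
    have hclsQ : ∀ x y : G ⧸ M, orderOf x = 2 → orderOf y = 2 → ∃ g, g * x * g⁻¹ = y := by
      intro x y hx hy
      obtain ⟨a, ha, rfl⟩ := SolvCentAb12.exists_lift M hModd hx
      obtain ⟨b, hb, rfl⟩ := SolvCentAb12.exists_lift M hModd hy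
      obtain ⟨g, rfl⟩ := hcls a b ha hb
      exact ⟨π g, by simp [hπ]⟩
    -- the fibres
    set Mt := invertedBy M t hab with hMt
    let I := {x : G // orderOf x = 2}
    let J := {x : G ⧸ M // orderOf x = 2}
    letI := Fintype.ofFinite I
    letI := Fintype.ofFinite J
    let f : I → J := fun x => ⟨π x.1, hordQ _ x.2⟩
    have hfib : ∀ y : J, Nat.card {x : I // f x = y} = Nat.card Mt := by
      intro y
      obtain ⟨a, ha, hay⟩ := SolvCentAb12.exists_lift M hModd y.2
      obtain ⟨g, hg⟩ := hcls t a ht ha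
      have hgi : ∀ m : G, m ∈ M → g⁻¹ * m * g ∈ M := fun m hm => by
        have := hMn.conj_mem m hm g⁻¹
        rwa [inv_inv] at this
      have e1 : ∀ x : I, f x = y ↔ g⁻¹ * (a⁻¹ * x.1) * g ∈ Mt := by
        intro x
        constructor
        · intro h
          have h' : (QuotientGroup.mk a : G ⧸ M) = QuotientGroup.mk x.1 := by
            rw [hay, ← h]; rfl
          rw [QuotientGroup.eq] at h'
          refine ⟨hgi _ h', ?_⟩
          have hx2 : x.1 * x.1 = 1 := by
            have h := pow_orderOf_eq_one x.1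
            rwa [x.2, pow_two] at h
          have hxi : x.1⁻¹ = x.1 := inv_eq_of_mul_eq_one_right hx2
          have hti : t⁻¹ = t := inv_eq_of_mul_eq_one_right ht2
          rw [← hg]
          calc t * (g⁻¹ * ((g * t * g⁻¹)⁻¹ * x.1) * g) * t⁻¹
              = t * t⁻¹ * (g⁻¹ * x.1 * g) * t⁻¹ := by group
            _ = (g⁻¹ * x.1⁻¹ * g) * t := by rw [mul_inv_cancel, one_mul, hti, hxi]
            _ = (g⁻¹ * ((g * t * g⁻¹)⁻¹ * x.1) * g)⁻¹ := by group
        · intro h
          apply Subtype.ext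
          show π x.1 = y.1
          rw [← hay]
          refine (QuotientGroup.eq.2 ?_).symm
          have := hMn.conj_mem _ h.1 g
          rwa [show g * (g⁻¹ * (a⁻¹ * x.1) * g) * g⁻¹ = a⁻¹ * x.1 by group] at this
      refine Nat.card_congr
        { toFun := fun x => ⟨g⁻¹ * (a⁻¹ * x.1.1) * g, (e1 x.1).1 x.2⟩
          invFun := fun m => ⟨⟨a * (g * m * g⁻¹), ?_⟩, ?_⟩
          left_inv := fun x => ?_
          right_inv := fun m => ?_ }
      · have h1 : (t * m) * (t * m) = 1 := by
          calc (t * (m : G)) * (t * m) = (t * m * t⁻¹) * (t * t) * m := by group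
            _ = 1 := by rw [m.2.2, ht2, mul_one, inv_mul_cancel]
        rw [← hg, show g * t * g⁻¹ * (g * (m : G) * g⁻¹) = g * (t * m) * g⁻¹ by group,
          ← MulAut.conj_apply, MulEquiv.orderOf_eq]
        refine orderOf_eq_prime (by rw [pow_two, h1]) fun h => hnotM t ht ?_
        rw [mul_eq_one_iff_eq_inv] at h
        rw [h]
        exact inv_mem m.2.1
      · apply Subtype.ext
        show π (a * (g * m * g⁻¹)) = y.1
        rw [← hay]
        refine (QuotientGroup.eq.2 ?_).symm
        rw [inv_mul_cancel_left]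
        exact hMn.conj_mem _ m.2.1 g
      · refine Subtype.ext (Subtype.ext ?_)
        show a * (g * (g⁻¹ * (a⁻¹ * x.1.1) * g) * g⁻¹) = x.1.1
        group
      · refine Subtype.ext ?_
        show g⁻¹ * (a⁻¹ * (a * (g * m * g⁻¹))) * g = m
        group
    have hprod : p ^ k = Nat.card J * Nat.card Mt := by
      rw [← hcard, Nat.card_congr (Equiv.sigmaFiberEquiv f).symm, Nat.card_sigma,
        Finset.sum_congr rfl fun y _ => hfib y, Finset.sum_const, smul_eq_mul, Finset.card_univ,
        ← Nat.card_eq_fintype_card]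
    obtain ⟨i, -, hi⟩ := (Nat.dvd_prime_pow hp).1 ⟨_, hprod⟩
    obtain ⟨d, -, hd⟩ := (Nat.dvd_prime_pow hp).1 ⟨Nat.card J, hprod.trans (mul_comm _ _)⟩
    rw [hi, hd, ← pow_add] at hprod
    have hkid : k = i + d := Nat.pow_right_injective hp.two_le hprod
    have hlt : Nat.card (G ⧸ M) < n := by
      rw [← hn, Subgroup.card_eq_card_quotient_mul_card_subgroup M]
      exact lt_mul_of_one_lt_right Nat.card_pos (by
        have := Subgroup.card_eq_one.not.2 hMne
        have := Nat.card_pos (α := M)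
        omega)
    obtain ⟨hie, hi9⟩ := ih _ hlt (G ⧸ M) rfl p i hp hp2 hnsQ hi hclsQ
    obtain ⟨L, hLn, hperf, hLinv⟩ := exists_perfect_invol hns hcls
    haveI := hLn
    -- the inverted part has even rank
    let ρ : L →* MulAut M := (MulAut.conjNormal (H := M)).comp L.subtype
    obtain ⟨d', hd'e, hd'⟩ := minus_card hr2 (fun m => Subtype.ext (hexp m m.2)) hperf ρ
      ⟨t, hLinv t ht⟩ (Subtype.ext ht2)
    have hcardMt : Nat.card Mt = r ^ d' := by
      rw [← hd']
      refine Nat.card_congr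
        { toFun := fun m => ⟨⟨m, m.2.1⟩, Subtype.ext ?_⟩
          invFun := fun m => ⟨m.1.1, m.1.2, ?_⟩
          left_inv := fun m => rfl
          right_inv := fun m => rfl }
      · show t * (m : G) * t⁻¹ = (m : G)⁻¹
        exact m.2.2
      · exact congrArg Subtype.val m.2
    have hde : Even d := by
      rcases Nat.eq_zero_or_pos d with rfl | hd0
      · exact Even.zero
      · have hrp : r = p ∧ d' = d := by
          rw [hd] at hcardMt
          have hd'0 : d' ≠ 0 := fun h => by
            rw [h, pow_zero, Nat.pow_eq_one] at hcardMt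
            rcases hcardMt with h | h
            · exact hp.one_lt.ne' h
            · omega
          have hrp : r = p := (Nat.prime_dvd_prime_iff_eq hr hp).1
            (hr.dvd_of_dvd_pow (n := d) (hcardMt ▸ dvd_pow_self r hd'0))
          subst hrp
          exact ⟨rfl, (Nat.pow_right_injective hp.two_le hcardMt).symm⟩
        exact hrp.2 ▸ hd'e
    refine ⟨hkid ▸ hie.add hde, fun h9 => ?_⟩
    -- `p ^ k = 9`
    have hp3 : p = 3 := (Nat.prime_dvd_prime_iff_eq hp Nat.prime_three).1 (by
      have hk0 : k ≠ 0 := fun h => by simp [h] at h9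
      exact hp.dvd_of_dvd_pow (n := 2) (show p ∣ 3 ^ 2 by rw [show (3 : ℕ) ^ 2 = 9 by norm_num, ← h9]; exact dvd_pow_self p hk0))
    subst hp3
    have hk2 : k = 2 := Nat.pow_right_injective (le_of_lt (by norm_num)) h9
    obtain ⟨a, ha⟩ := hie
    obtain ⟨b, hb⟩ := hde
    have hi0 : i = 0 := by
      rcases (show i = 0 ∨ i = 2 by omega) with h | h
      · exact h
      · exact absurd (by rw [h]; rfl) hi9
    have hd2 : d = 2 := by omega
    -- the image of `t` is central
    have hJ : Nat.card J = 1 := by rw [hi, hi0, pow_zero]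
    have hcentral : ∀ g : G, ∀ m ∈ M, g * t * g⁻¹ * m * (g * t * g⁻¹)⁻¹ = t * m * t⁻¹ := by
      intro g m hm
      haveI := (Nat.card_eq_one_iff_unique.1 hJ).1
      have h1 : π t = π (g * t * g⁻¹) := congrArg Subtype.val (Subsingleton.elim
        (⟨π t, hordQ t ht⟩ : J) ⟨π (g * t * g⁻¹), hordQ _ (by
          rw [← MulAut.conj_apply, MulEquiv.orderOf_eq]; exact ht)⟩)
      have h2 : t⁻¹ * (g * t * g⁻¹) ∈ M := QuotientGroup.eq.1 h1
      calc g * t * g⁻¹ * m * (g * t * g⁻¹)⁻¹
          = t * ((t⁻¹ * (g * t * g⁻¹)) * m * (t⁻¹ * (g * t * g⁻¹))⁻¹) * t⁻¹ := by group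
        _ = t * m * t⁻¹ := by rw [hab _ h2 m hm, mul_inv_cancel_right]
    haveI hMtn : Mt.Normal := ⟨fun m hm g => ⟨hMn.conj_mem m hm.1 g, by
      rw [← hcentral g _ (hMn.conj_mem m hm.1 g)]
      calc g * t * g⁻¹ * (g * m * g⁻¹) * (g * t * g⁻¹)⁻¹ = g * (t * m * t⁻¹) * g⁻¹ := by group
        _ = (g * m * g⁻¹)⁻¹ := by rw [hm.2]; group⟩⟩
    letI : CommGroup Mt :=
      { (inferInstance : Group Mt) with
        mul_comm := fun a b => Subtype.ext (hab a a.2.1 b b.2.1) }
    have hMt9 : Nat.card Mt = 9 := by rw [hd, hd2]; rfl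
    have hexp3 : ∀ m : Mt, m ^ 3 = 1 := by
      intro m
      have hr3 : r = 3 := by
        rw [hd, hd2] at hcardMt
        have hd'0 : d' ≠ 0 := fun h => by simp [h] at hcardMt
        exact (Nat.prime_dvd_prime_iff_eq hr Nat.prime_three).1
          (hr.dvd_of_dvd_pow (n := 2) (hcardMt ▸ dvd_pow_self r hd'0))
      exact Subtype.ext (hr3 ▸ hexp m m.2.1)
    have htriv : ∀ m : Mt, (m : G) = 1 := fun m => by
      have h := congrArg Subtype.val (trivial_of_mul_nine hexp3 hMt9 hperf
        ((MulAut.conjNormal (H := Mt)).comp L.subtype) ⟨t, hLinv t ht⟩ m)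
      have h' : t * (m : G) * t⁻¹ = m := h
      rw [m.2.2, inv_eq_iff_mul_eq_one, ← pow_two] at h'
      have h1 : orderOf (m : G) ∣ 2 := orderOf_dvd_of_pow_eq_one h'
      refine orderOf_eq_one_iff.1 (((Nat.dvd_prime Nat.prime_two).1 h1).resolve_right fun h2 => ?_)
      exact hnotM _ h2 m.2.1
    haveI : Subsingleton Mt := ⟨fun a b => Subtype.ext ((htriv a).trans (htriv b).symm)⟩
    rw [Nat.card_unique] at hMt9
    omega
  · push Not at hO
    rcases Nat.even_or_odd k with hke | hko
    · by_cases hk0 : k = 0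
      · subst hk0
        exact ⟨hke, by norm_num⟩
      · refine ⟨hke, fun h9 => ?_⟩
        -- the normal closure gives `2 ^ m = 10`
        exact absurd h9 (fun h9 => by
          obtain ⟨N, hN, hNc⟩ := exists_invol_subgroup hcls ht hcard hO
          obtain ⟨m, hm⟩ := IsPGroup.iff_card.1 (show IsPGroup 2 N from fun x =>
            ⟨1, Subtype.ext (by rw [pow_one, pow_two]; exact (hN _).1 x.2)⟩)
          rw [hNc, h9] at hm
          rcases Nat.lt_or_ge m 4 with h | h
          · interval_cases m <;> omega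
          · have := Nat.pow_le_pow_right (show 1 ≤ 2 by norm_num) h
            omega)
    · exfalso
      obtain ⟨N, hN, hNc⟩ := exists_invol_subgroup hcls ht hcard hO
      exact subgroup_false hp hp2 hko hns N hN hNc hcls
where
  /-- Without normal subgroups of odd order the involutions form, with `1`, a subgroup. -/
  exists_invol_subgroup {G : Type} [Group G] [Finite G] {p k : ℕ} [Fact p.Prime] {t : G}
      (hcls : ∀ x y : G, orderOf x = 2 → orderOf y = 2 → ∃ g : G, g * x * g⁻¹ = y)
      (ht : orderOf t = 2) (hcard : Nat.card {x : G // orderOf x = 2} = p ^ k)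
      (hO : ∀ O : Subgroup G, O.Normal → O ≠ ⊥ → ¬ Odd (Nat.card O)) :
      ∃ N : Subgroup G, (∀ x : G, x ∈ N ↔ x * x = 1) ∧ Nat.card N = p ^ k + 1 := by
    classical
    have hsol := Cfsg.Agent.S4037.result t (p := p) Fact.out k (by
      rw [isConj_class ht hcls, ← hcard]
      exact Nat.card_coe_set_eq _)
    have hne : Subgroup.normalClosure ({t} : Set G) ≠ ⊥ := fun h => by
      have h1 : t ∈ Subgroup.normalClosure ({t} : Set G) := subset_normalClosure rfl
      rw [h, mem_bot] at h1
      rw [h1, orderOf_one] at ht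
      omega
    obtain ⟨M, hMn, -, hMne, hab, r, hr, hexp⟩ := exists_elementary _ hne hsol
    haveI : Fact r.Prime := ⟨hr⟩
    have hrp : IsPGroup r M := fun x => ⟨1, Subtype.ext (by rw [pow_one]; exact hexp x x.2)⟩
    have hr2 : r = 2 := by
      by_contra hr2
      obtain ⟨e, he⟩ := IsPGroup.iff_card.1 hrp
      exact hO M hMn hMne (he ▸ (hr.odd_of_ne_two hr2).pow)
    subst hr2
    obtain ⟨x0, hx0, hx01⟩ : ∃ x ∈ M, x ≠ 1 := by
      by_contra h
      push Not at h
      exact hMne ((eq_bot_iff).2 fun x hx => mem_bot.2 (h x hx))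
    have hall : ∀ x : G, orderOf x = 2 → x ∈ M := fun x hx => by
      obtain ⟨g, rfl⟩ := hcls x0 x (orderOf_eq_prime (hexp x0 hx0) hx01) hx
      exact hMn.conj_mem _ hx0 g
    have hM : ∀ x : G, x ∈ M ↔ x * x = 1 := fun x => by
      refine ⟨fun hx => by rw [← pow_two]; exact hexp x hx, fun hx => ?_⟩
      by_cases h1 : x = 1
      · rw [h1]; exact one_mem _
      · exact hall x (orderOf_eq_prime (by rw [pow_two, hx]) h1)
    refine ⟨M, hM, ?_⟩
    letI := Fintype.ofFinite G
    have hset : {x : G | orderOf x = 2} = (M : Set G) \ {1} := by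
      ext x
      simp only [Set.mem_ofPred_eq, Set.mem_sdiff, SetLike.mem_coe, Set.mem_singleton_iff]
      exact ⟨fun h => ⟨hall x h, fun h1 => by rw [h1, orderOf_one] at h; omega⟩,
        fun h => orderOf_eq_prime (hexp x h.1) h.2⟩
    rw [← hcard, show Nat.card {x : G // orderOf x = 2} = ({x : G | orderOf x = 2}).ncard from
      Nat.card_coe_set_eq _, hset, Set.ncard_sdiff_singleton_add_one (one_mem M) (Set.toFinite _)]
    exact Nat.card_coe_set_eq _

end Cfsg.Agent.Lib.PrimeInvol7
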