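import Mathlib
import Cfsg.Agent.Lib.Suzuki2.Anisotropic

/-!
# Anisotropic squaring maps with fibres of equal size

`q : V → Z` is a quadratic map of elementary abelian 2-groups vanishing only at `0` such that all
fibres over nonzero values have the same size (the squaring map of a Suzuki 2-group).

* `finrank_cases` : `dim V = dim Z` or `dim V = 2 dim Z`;
* `injective_of_finrank_eq` : in the first case `q` is injective;
* `eq_zero_of_radical` : in the second case every nonzero functional gives a nonsingular form;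
* `semiregular` : in the second case an isometry of odd order fixing a nonzero vector is trivial.
-/

set_option autoImplicit false
set_option linter.style.haveILetI false
set_option linter.unusedSectionVars false

namespace Cfsg.Agent.Lib.PrimeInvol7

open Module Finset

/-- An anisotropic quadratic map. -/
structure SqForm (V Z : Type*) [AddCommGroup V] [AddCommGroup Z] where
  /-- the map -/
  q : V → Z
  /-- its polarisation -/
  b : V → V → Z
  q_add : ∀ u v, q (u + v) = q u + q v + b u v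
  b_add : ∀ u u' v, b (u + u') v = b u v + b u' v
  anis : ∀ v, q v = 0 → v = 0

namespace SqForm

variable {V Z : Type*} [AddCommGroup V] [AddCommGroup Z] (Q : SqForm V Z)

theorem b_zero_left (v : V) : Q.b 0 v = 0 := by
  have h := Q.b_add 0 0 v
  rwa [add_zero, left_eq_add] at h

theorem q_zero : Q.q 0 = 0 := by
  have h := Q.q_add 0 0
  rw [Q.b_zero_left, add_zero, add_zero] at h
  exact left_eq_add.1 h

theorem b_symm (u v : V) : Q.b u v = Q.b v u := by
  have h1 := Q.q_add u v
  have h2 := Q.q_add v u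
  rw [add_comm v u, h1, add_comm (Q.q v) (Q.q u)] at h2
  exact add_left_cancel h2

theorem b_add_right (u v v' : V) : Q.b u (v + v') = Q.b u v + Q.b u v' := by
  rw [Q.b_symm, Q.b_add, Q.b_symm v u, Q.b_symm v' u]

/-- The polarisation as a homomorphism in the second variable. -/
def bHom (u : V) : V →+ Z :=
  AddMonoidHom.mk' (Q.b u) (Q.b_add_right u)

@[simp] theorem bHom_apply (u v : V) : Q.bHom u v = Q.b u v := rfl

theorem b_sub_right (u v v' : V) : Q.b u (v - v') = Q.b u v - Q.b u v' :=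
  map_sub (Q.bHom u) v v'

section Two

variable [Module (ZMod 2) V] [Module (ZMod 2) Z]

theorem two_add_self {M : Type*} [AddCommGroup M] [Module (ZMod 2) M] (x : M) : x + x = 0 := by
  rw [← two_smul (ZMod 2) x, show (2 : ZMod 2) = 0 from rfl, zero_smul]

theorem b_self (v : V) : Q.b v v = 0 := by
  have h := Q.q_add v v
  rwa [two_add_self, Q.q_zero, two_add_self, zero_add, eq_comm] at h

end Two

end SqForm

/-- All fibres over nonzero values have equal size. -/
def Uniform {V Z : Type*} [Zero Z] (q : V → Z) : Prop :=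
  ∀ z z' : Z, z ≠ 0 → z' ≠ 0 → Nat.card {v // q v = z} = Nat.card {v // q v = z'}

/-- The sign character of `ZMod 2`. -/
def sgn (a : ZMod 2) : ℤ := if a = 0 then 1 else -1

theorem sgn_zero : sgn 0 = 1 := rfl

theorem sgn_add : ∀ a b : ZMod 2, sgn (a + b) = sgn a * sgn b := by decide

theorem sgn_mul_self : ∀ a : ZMod 2, sgn a * sgn a = 1 := by decide

theorem sgn_of_ne_zero : ∀ a : ZMod 2, a ≠ 0 → sgn a = -1 := by decide

theorem sum_sgn_eq_zero {X : Type*} [AddCommGroup X] [Fintype X] (f : X →+ ZMod 2) (hf : f ≠ 0) :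
    ∑ x, sgn (f x) = 0 := by
  obtain ⟨c, hc⟩ : ∃ c, f c ≠ 0 := by
    by_contra h
    push Not at h
    exact hf (AddMonoidHom.ext h)
  have h : ∑ x, sgn (f x) = -∑ x, sgn (f x) := by
    calc ∑ x, sgn (f x) = ∑ x, sgn (f (c + x)) :=
          (Equiv.sum_comp (Equiv.addLeft c) fun x => sgn (f x)).symm
      _ = _ := by simp only [map_add, sgn_add, sgn_of_ne_zero _ hc, neg_one_mul, sum_neg_distrib]
  omega

namespace SqForm

variable {V Z : Type*} [AddCommGroup V] [AddCommGroup Z] (Q : SqForm V Z)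

theorem fibre_zero : Nat.card {v // Q.q v = 0} = 1 := by
  have : Subsingleton {v // Q.q v = 0} :=
    ⟨fun a b => Subtype.ext ((Q.anis _ a.2).trans (Q.anis _ b.2).symm)⟩
  have : Nonempty {v // Q.q v = 0} := ⟨⟨0, Q.q_zero⟩⟩
  exact Nat.card_unique

variable [Module (ZMod 2) V] [Module (ZMod 2) Z] [Finite V] [Finite Z]

theorem card_eq_two_pow (M : Type*) [AddCommGroup M] [Module (ZMod 2) M] [Finite M] :
    Nat.card M = 2 ^ finrank (ZMod 2) M := by
  have : Module.Finite (ZMod 2) M := Module.Finite.of_finite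
  rw [Module.natCard_eq_pow_finrank (K := ZMod 2), Nat.card_zmod]

theorem card_fibres (hU : Uniform Q.q) {z : Z} (hz : z ≠ 0) :
    Nat.card V = 1 + (Nat.card Z - 1) * Nat.card {v // Q.q v = z} := by
  classical
  letI := Fintype.ofFinite Z
  rw [Nat.card_congr (Equiv.sigmaFiberEquiv Q.q).symm, Nat.card_sigma,
    ← add_sum_erase _ _ (mem_univ (0 : Z)), Q.fibre_zero,
    sum_congr rfl fun w hw => hU w z (ne_of_mem_erase hw) hz, sum_const, smul_eq_mul,
    card_erase_of_mem (mem_univ _), card_univ, Nat.card_eq_fintype_card (α := Z)]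

include Q in
theorem finrank_le : finrank (ZMod 2) V ≤ 2 * finrank (ZMod 2) Z := by
  have : Module.Finite (ZMod 2) V := Module.Finite.of_finite
  have : Module.Finite (ZMod 2) Z := Module.Finite.of_finite
  let eV := (Module.finBasis (ZMod 2) V).equivFun
  let eZ := (Module.finBasis (ZMod 2) Z).equivFun
  refine Suzuki2.Anisotropic.bound (fun x => eZ (Q.q (eV.symm x)))
    (fun x y => eZ (Q.b (eV.symm x) (eV.symm y))) (fun x y => ?_) (fun x x' y => ?_) (fun x y => ?_)
    fun x hx => ?_
  · simp only [map_add, Q.q_add]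
  · simp only [map_add, Q.b_add]
  · simp only [Q.b_symm]
  · exact eV.symm.map_eq_zero_iff.1 (Q.anis _ (eZ.map_eq_zero_iff.1 hx))

theorem finrank_cases (hU : Uniform Q.q) (hm : 0 < finrank (ZMod 2) Z)
    (hn : 0 < finrank (ZMod 2) V) :
    finrank (ZMod 2) V = finrank (ZMod 2) Z ∨
      finrank (ZMod 2) V = 2 * finrank (ZMod 2) Z := by
  obtain ⟨z, hz⟩ := Module.finrank_pos_iff_exists_ne_zero.1 hm
  have hc := Q.card_fibres hU hz
  rw [card_eq_two_pow V, card_eq_two_pow Z] at hc
  have hle := Q.finrank_le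
  set n := finrank (ZMod 2) V
  set m := finrank (ZMod 2) Z
  have hdvd : 2 ^ m - 1 ∣ 2 ^ n - 1 := ⟨_, by rw [hc, Nat.add_sub_cancel_left]⟩
  have hmn : m ∣ n := by
    have h1 := Nat.pow_sub_one_gcd_pow_sub_one 2 m n
    rw [Nat.gcd_eq_left hdvd] at h1
    have : 1 ≤ 2 ^ m := Nat.one_le_two_pow
    have : 1 ≤ 2 ^ Nat.gcd m n := Nat.one_le_two_pow
    exact Nat.gcd_eq_left_iff_dvd.1
      (Nat.pow_right_injective le_rfl (show 2 ^ Nat.gcd m n = 2 ^ m by omega))
  obtain ⟨j, hj⟩ := hmn
  rw [hj] at hle hn ⊢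
  have hj2 : j ≤ 2 := Nat.le_of_mul_le_mul_left (by linarith) hm
  have hj0 : j ≠ 0 := by rintro rfl; simp at hn
  obtain rfl | rfl : j = 1 ∨ j = 2 := by omega
  · left; ring
  · right; ring

theorem injective_of_finrank_eq (hU : Uniform Q.q)
    (h : finrank (ZMod 2) V = finrank (ZMod 2) Z) : Function.Injective Q.q := by
  intro u v huv
  by_cases h0 : Q.q u = 0
  · rw [Q.anis u h0, Q.anis v (huv ▸ h0)]
  · have hc := Q.card_fibres hU h0
    rw [card_eq_two_pow V, card_eq_two_pow Z, h] at hc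
    have hz : 2 ≤ 2 ^ finrank (ZMod 2) Z := by
      rcases Nat.eq_zero_or_pos (finrank (ZMod 2) Z) with hz0 | hz0
      · have h1 : Nat.card Z = 1 := by rw [card_eq_two_pow Z, hz0, pow_zero]
        have := (Nat.card_eq_one_iff_unique.1 h1).1
        exact absurd (Subsingleton.elim _ _) h0
      · calc 2 = 2 ^ 1 := rfl
          _ ≤ _ := Nat.pow_le_pow_right (by norm_num) hz0
    have hF : Nat.card {w // Q.q w = Q.q u} = 1 :=
      Nat.eq_of_mul_eq_mul_left (show 0 < 2 ^ finrank (ZMod 2) Z - 1 by omega) (by omega)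
    have := (Nat.card_eq_one_iff_unique.1 hF).1
    exact congrArg Subtype.val
      (Subsingleton.elim (⟨u, rfl⟩ : {w // Q.q w = Q.q u}) ⟨v, huv.symm⟩)

theorem eq_zero_of_radical (hU : Uniform Q.q)
    (h : finrank (ZMod 2) V = 2 * finrank (ZMod 2) Z) {φ : Z →+ ZMod 2} (hφ : φ ≠ 0) {v : V}
    (hv : ∀ x, φ (Q.b x v) = 0) : v = 0 := by
  classical
  letI := Fintype.ofFinite V
  letI := Fintype.ofFinite Z
  set m := finrank (ZMod 2) Z
  obtain ⟨z0, hz0⟩ : ∃ z, φ z ≠ 0 := by
    by_contra hno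
    push Not at hno
    exact hφ (AddMonoidHom.ext hno)
  have hz0' : z0 ≠ 0 := fun hz => hz0 (by rw [hz, map_zero])
  have hm1 : 1 < 2 ^ m := by
    rw [← card_eq_two_pow Z]
    exact Finite.one_lt_card_iff_nontrivial.2 ⟨⟨z0, 0, hz0'⟩⟩
  -- the size of a fibre
  have hc := Q.card_fibres hU hz0'
  rw [card_eq_two_pow V, card_eq_two_pow Z, h, pow_mul', sq] at hc
  have hF : Nat.card {w // Q.q w = z0} = 2 ^ m + 1 := by
    set F := Nat.card {w // Q.q w = z0}
    obtain ⟨a, ha⟩ : ∃ a, 2 ^ m = a + 1 := ⟨2 ^ m - 1, by omega⟩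
    rw [ha] at hc ⊢
    rw [Nat.add_sub_cancel] at hc
    have : a * F = a * (a + 1 + 1) := by nlinarith
    exact Nat.eq_of_mul_eq_mul_left (by omega) this
  let χ : V → ℤ := fun x => sgn (φ (Q.q x))
  -- the sum of the signs
  have hS : ∑ x, χ x = -(2 ^ m : ℤ) := by
    rw [← sum_fiberwise (univ : Finset V) Q.q χ]
    have h1 : ∀ z : Z, ∑ x ∈ univ.filter (fun x => Q.q x = z), χ x =
        (Nat.card {w // Q.q w = z} : ℤ) * sgn (φ z) := fun z => by
      rw [sum_congr rfl fun x hx => show χ x = sgn (φ z) by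
          show sgn _ = _; rw [(mem_filter.1 hx).2],
        sum_const, Nat.card_eq_fintype_card, Fintype.card_subtype, nsmul_eq_mul]
    simp only [h1]
    have h2 := sum_sgn_eq_zero φ hφ
    rw [← add_sum_erase _ _ (mem_univ (0 : Z)), map_zero, sgn_zero] at h2
    rw [← add_sum_erase _ _ (mem_univ (0 : Z)), Q.fibre_zero, map_zero, sgn_zero,
      sum_congr rfl fun w hw => by rw [hU w z0 (ne_of_mem_erase hw) hz0', hF],
      ← mul_sum]
    push_cast
    linear_combination ((2 : ℤ) ^ m + 1) * h2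
  -- its square
  let R : Finset V := univ.filter fun u => ∀ x, φ (Q.b x u) = 0
  have hmul : ∀ x u, χ x * χ (x + u) = χ u * sgn (φ (Q.b x u)) := fun x u => by
    show sgn _ * sgn _ = sgn _ * _
    rw [Q.q_add, map_add, map_add, sgn_add, sgn_add, ← mul_assoc, ← mul_assoc, sgn_mul_self, one_mul]
  have hinner : ∀ u, ∑ x, sgn (φ (Q.b x u)) = if u ∈ R then (2 ^ m : ℤ) * 2 ^ m else 0 := fun u => by
    split_ifs with hu
    · rw [sum_congr rfl fun x _ => by rw [(mem_filter.1 hu).2 x, sgn_zero], sum_const, card_univ,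
        ← Nat.card_eq_fintype_card, card_eq_two_pow V, h]
      simp [pow_mul', sq]
    · have hne : (φ.comp (Q.bHom u)) ≠ 0 := fun h0 => hu (mem_filter.2 ⟨mem_univ _, fun x => by
        have := DFunLike.congr_fun h0 x
        rw [Q.b_symm]
        simpa using this⟩)
      rw [← sum_sgn_eq_zero _ hne]
      exact sum_congr rfl fun x _ => by simp [Q.b_symm x u]
  have hR : ∑ u ∈ R, χ u = 1 := by
    have h1 : (∑ x, χ x) * (∑ x, χ x) = (2 ^ m : ℤ) * 2 ^ m * ∑ u ∈ R, χ u := by
      calc (∑ x, χ x) * (∑ x, χ x) = ∑ x, ∑ u, χ x * χ (x + u) := by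
            rw [sum_mul_sum]
            exact sum_congr rfl fun x _ =>
              (Equiv.sum_comp (Equiv.addLeft x) fun u => χ x * χ u).symm
        _ = ∑ u, ∑ x, χ u * sgn (φ (Q.b x u)) := by
            rw [sum_comm]
            exact sum_congr rfl fun u _ => sum_congr rfl fun x _ => hmul x u
        _ = ∑ u, if u ∈ R then χ u * ((2 ^ m : ℤ) * 2 ^ m) else 0 := by
            refine sum_congr rfl fun u _ => ?_
            rw [← mul_sum, hinner, mul_ite, mul_zero]
        _ = _ := by rw [sum_ite_mem, univ_inter, ← sum_mul, mul_comm]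
    rw [hS, neg_mul_neg] at h1
    exact (mul_left_cancel₀ (by positivity) ((mul_one _).trans h1)).symm
  -- the radical is trivial
  have hmem : ∀ {u w : V}, u ∈ R → w ∈ R → u + w ∈ R := fun hu hw => mem_filter.2
    ⟨mem_univ _, fun x => by
      rw [Q.b_add_right, map_add, (mem_filter.1 hu).2, (mem_filter.1 hw).2, add_zero]⟩
  have hvR : v ∈ R := mem_filter.2 ⟨mem_univ _, hv⟩
  have h0R : (0 : V) ∈ R := mem_filter.2 ⟨mem_univ _, fun x => by
    rw [Q.b_symm, Q.b_zero_left, map_zero]⟩
  have hall : ∀ w ∈ R, χ w = 1 := by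
    intro w hw
    by_contra hne
    have hw1 : χ w = -1 := by
      show sgn _ = -1
      refine sgn_of_ne_zero _ fun h0 => hne ?_
      show sgn _ = 1
      rw [h0, sgn_zero]
    have h1 : ∑ u ∈ R, χ u = -∑ u ∈ R, χ u := by
      rw [← sum_neg_distrib]
      refine sum_bij' (fun u _ => w + u) (fun u _ => w + u) (fun u hu => hmem hw hu)
        (fun u hu => hmem hw hu) (fun u _ => by rw [← add_assoc, two_add_self, zero_add])
        (fun u _ => by rw [← add_assoc, two_add_self, zero_add]) fun u hu => ?_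
      have e1 : χ (w + u) = χ w * χ u := by
        show sgn _ = sgn _ * sgn _
        rw [Q.q_add, map_add, map_add, (mem_filter.1 hu).2 w, add_zero, sgn_add]
      rw [e1, hw1, neg_one_mul, neg_neg]
    omega
  rw [sum_congr rfl hall, sum_const, nsmul_eq_mul, mul_one, Nat.cast_eq_one] at hR
  exact card_le_one.1 hR.le v hvR 0 h0R

theorem semiregular (hU : Uniform Q.q) (h : finrank (ZMod 2) V = 2 * finrank (ZMod 2) Z)
    (k : V ≃+ V) (hq : ∀ v, Q.q (k v) = Q.q v) {N : ℕ} (hN : Odd N) (hk : ∀ v, k^[N] v = v)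
    {v : V} (hv : v ≠ 0) (hfix : k v = v) : ∀ u, k u = u := by
  have hb : ∀ u w, Q.b (k u) (k w) = Q.b u w := fun u w => by
    have h1 := Q.q_add (k u) (k w)
    rw [← map_add, hq, hq, hq, Q.q_add u w] at h1
    exact (add_left_cancel h1).symm
  let d : V →ₗ[ZMod 2] V := (AddMonoidHom.mk' (fun u => k u - u) fun u w => by
    simp only [map_add]; abel).toZModLinearMap 2
  have hd : ∀ u, d u = k u - u := fun _ => rfl
  set C := LinearMap.ker d with hC
  set W := LinearMap.range d with hW
  have hCW : ∀ c ∈ C, ∀ w ∈ W, Q.b c w = 0 := by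
    rintro c hc _ ⟨u, rfl⟩
    rw [LinearMap.mem_ker, hd, sub_eq_zero] at hc
    rw [hd, Q.b_sub_right, sub_eq_zero]
    conv_lhs => rw [← hc]
    exact hb c u
  have hinf : C ⊓ W = ⊥ := by
    rw [eq_bot_iff]
    rintro x ⟨hx, u, rfl⟩
    rw [SetLike.mem_coe, LinearMap.mem_ker, hd, sub_eq_zero] at hx
    have hiter : ∀ i : ℕ, k^[i] u = u + i • d u := by
      intro i
      induction i with
      | zero => simp
      | succ i ih =>
        rw [Function.iterate_succ_apply', ih, map_add, map_nsmul, hx, succ_nsmul, hd]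
        abel
    have h1 := hiter N
    rw [hk, left_eq_add] at h1
    obtain ⟨j, rfl⟩ := hN
    rw [succ_nsmul, mul_nsmul, two_nsmul, two_add_self, nsmul_zero, zero_add] at h1
    exact (Submodule.mem_bot _).2 h1
  have : Module.Finite (ZMod 2) V := Module.Finite.of_finite
  have : Module.Finite (ZMod 2) Z := Module.Finite.of_finite
  have hsum : finrank (ZMod 2) C + finrank (ZMod 2) W = finrank (ZMod 2) V := by
    rw [add_comm]; exact d.finrank_range_add_finrank_ker
  have hsup : C ⊔ W = ⊤ := by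
    refine Submodule.eq_top_of_finrank_eq ?_
    have := Submodule.finrank_sup_add_finrank_inf_eq C W
    rw [hinf, finrank_bot, add_zero] at this
    omega
  -- a nonzero vector of one part pairs onto `Z` with that part
  have key : ∀ A B : Submodule (ZMod 2) V, A ⊔ B = ⊤ → (∀ a ∈ A, ∀ b ∈ B, Q.b a b = 0) →
      ∀ a ∈ A, a ≠ 0 → finrank (ZMod 2) Z + 1 ≤ finrank (ZMod 2) A := by
    intro A B hAB hperp a ha ha0
    let g : A →ₗ[ZMod 2] Z := ((Q.bHom a).comp A.subtype.toAddMonoidHom).toZModLinearMap 2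
    have hg : ∀ x : A, g x = Q.b a x := fun _ => rfl
    have hsurj : LinearMap.range g = ⊤ := by
      by_contra hne
      obtain ⟨z, -, hz⟩ := SetLike.exists_of_lt (lt_top_iff_ne_top.2 hne)
      obtain ⟨φ, hφz, hφ⟩ := Submodule.exists_dual_map_eq_bot_of_notMem hz inferInstance
      refine ha0 (Q.eq_zero_of_radical hU h (φ := φ.toAddMonoidHom)
        (fun h0 => hφz (DFunLike.congr_fun h0 z)) fun x => ?_)
      obtain ⟨y, hy, w, hw, rfl⟩ := Submodule.mem_sup.1 (hAB ▸ Submodule.mem_top (x := x))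
      show φ (Q.b (y + w) a) = 0
      rw [Q.b_add, Q.b_symm w a, hperp a ha w hw, add_zero, Q.b_symm]
      have : φ (g ⟨y, hy⟩) ∈ (LinearMap.range g).map φ :=
        Submodule.mem_map_of_mem (LinearMap.mem_range_self g _)
      rwa [hφ, Submodule.mem_bot] at this
    have hker : 1 ≤ finrank (ZMod 2) (LinearMap.ker g) := by
      refine Module.finrank_pos_iff_exists_ne_zero.2 ⟨⟨⟨a, ha⟩, ?_⟩, ?_⟩
      · rw [LinearMap.mem_ker, hg]
        exact Q.b_self a
      · exact fun h0 => ha0 (congrArg (fun t : LinearMap.ker g => ((t : A) : V)) h0)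
    have h1 := g.finrank_range_add_finrank_ker
    rw [hsurj, finrank_top] at h1
    omega
  have hvC : v ∈ C := by rw [LinearMap.mem_ker, hd, hfix, sub_self]
  have h1 := key C W hsup hCW v hvC hv
  intro u
  by_contra hu
  have hu' : d u ≠ 0 := fun h0 => hu (sub_eq_zero.1 h0)
  have h2 := key W C (sup_comm C W ▸ hsup)
    (fun a ha c hc => by rw [Q.b_symm]; exact hCW c hc a ha) (d u) (LinearMap.mem_range_self d u) hu'
  omega

end SqForm

end Cfsg.Agent.Lib.PrimeInvol7
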